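import Mathlib
import Cfsg.Agent.H10.FrB

/-!
# Orthogonal frames, II: one more reflection generates `Ω` (prime fields)
* `Form.Om`, `Fr.gf3`, `Fr.good`, `Fr.fin5`, `Fr.fin7`, `Fr.gf`
-/

namespace H10

open Module

namespace Form
variable {F V : Type*} [Field F] [AddCommGroup V] [Module F V] {φ : Form F V} {κ : Type*}

/-- `L` contains `Ω(U)` -/
def Om (L : Subgroup φ.Isom) (U : Submodule F V) : Prop :=
  ∀ x ∈ U, ∀ y ∈ U, φ.Q x ≠ 0 → ∀ c : F, c ≠ 0 → φ.Q x = c * c * φ.Q y → φ.refl x * φ.refl y ∈ L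

variable [φ.Nondeg] [FiniteDimensional F V] {L : Subgroup φ.Isom}

theorem IsQuad.ss_of_rr (h : φ.IsQuad) (hF : ∀ c : F, ∃ n : ℕ, c = n) {p w : V} {hp : φ.Q p = 0} (hw : φ.B p w = 0)
    (h0 : φ.Q w ≠ 0) (h1 : φ.refl w * φ.refl (w + p) ∈ L) : w ∈ h.ss L hp := by
  rw [← one_smul F p, h.refl_refl hp hw h0] at h1
  refine h.mem_ss.2 ⟨hw, fun c => ?_⟩
  obtain ⟨n, hn⟩ := hF (-c * φ.Q w)
  rw [show c • w = (n : F) • (-1 / φ.Q w) • w by rw [smul_smul, ← hn]; congr 1; field_simp]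
  clear hn
  induction n with
  | zero => rw [Nat.cast_zero, zero_smul, ← zero_smul F p, h.sg_self hp]; exact one_mem _
  | succ n ih =>
    rw [Nat.cast_succ, add_smul, one_smul, ← h.sg_mul hp (by simp [hw]) (by simp [hw])]
    exact mul_mem ih h1

theorem IsQuad.ss_of_om (h : φ.IsQuad) (h2 : (2 : F) ≠ 0) (hF : ∀ c : F, ∃ n : ℕ, c = n) {U : Submodule F V}
    (hU : Om L U) {p u : V} {hp : φ.Q p = 0} (h1 : p ∈ U) (h3 : u ∈ U) (h4 : φ.B p u = 0) (h5 : φ.Q u ≠ 0) :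
    ∀ w ∈ U, φ.B p w = 0 → w ∈ h.ss L hp := by
  have a : ∀ w ∈ U, φ.B p w = 0 → φ.Q w ≠ 0 → w ∈ h.ss L hp := fun w a b c => h.ss_of_rr hF b c
    (hU w a _ (add_mem a h1) c 1 one_ne_zero (by simp [h.Q_add, hp, φ.B_symm_zero b]))
  intro w b c
  by_cases d : φ.Q w = 0
  swap; · exact a w b c d
  by_cases d1 : φ.Q (w + u) = 0
  · refine (add_mem_cancel_right (neg_mem (a u h3 h4 h5))).1 (a _ (add_mem b (neg_mem h3)) (by simp [c, h4]) fun d2 => ?_)
    rw [h.Q_add] at d1 d2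
    simp only [Q_neg, map_neg] at d2
    exact mul_ne_zero h2 h5 (by linear_combination d1 + d2 - 2 * d)
  · exact (add_mem_cancel_right (a u h3 h4 h5)).1 (a _ (add_mem b h3) (by simp [c, h4]) d1)

variable [Fintype κ] [DecidableEq κ] [Finite F]

namespace Fr
variable {e : κ → V} {N : F} (h : φ.Fr e N) (hF : ∀ c : F, ∃ n : ℕ, c = n) (hL : φ.E ⊓ φ.dstab (ln F e) ≤ L)
include h hF hL

theorem gf3 (h3 : (3 : F) = 0) {v : V} (hv : Rf L v) (hv' : ¬ φ.Rt e v) {j : κ} (hj : φ.B (e j) v = 0) : φ.E ≤ L := by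
  have s : ∀ c : F, c ≠ 0 → c * c = 1 := fun c hc => by
    obtain ⟨n, rfl⟩ := hF c
    rw [← Nat.div_add_mod n 3] at hc ⊢
    have : n % 3 = 0 ∨ n % 3 = 1 ∨ n % 3 = 2 := by omega
    rcases this with a | a | a <;> simp only [a, Nat.cast_add, Nat.cast_mul, Nat.cast_ofNat, h3] at hc ⊢
    · simp at hc
    · simp
    · linear_combination h3
  obtain ⟨i, k, l, hi, hk, hl, ik, il, kl⟩ := Finset.two_lt_card_iff.1
    (h.three_of hv.1 hv' fun i j _ a b => by rw [s _ a, s _ b])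
  rw [mem_supp] at hi hk hl
  have n : ∀ i, φ.B (e i) v ≠ 0 → i ≠ j := by rintro i a rfl; exact a hj
  have ij := n i hi
  have kj := n k hk
  have s1 := s _ hi
  have s2 := s _ hk
  set x := φ.B (e i) v with hx
  set y := φ.B (e k) v with hy
  have m : ∀ (c : F) i, c • e i ∈ ln F e i := fun c i => Submodule.smul_mem _ c (Submodule.mem_span_singleton_self _)
  have r1 := h.root ik (m x i) (m y k) (by simp [h.q.Q_smul, s1, h.Qe, h.N0]) (by simp [h.q.Q_smul, s1, s2, h.Qe])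
  have r2 := h.root ij (m (-x) i) (m 1 j) (by simp [h.q.Q_smul, s1, h.Qe, h.N0]) (by simp [h.q.Q_smul, s1, h.Qe])
  have hp : φ.Q (x • e i - y • e k + e j) = 0 := by
    simp only [sub_eq_add_neg, h.q.Q_add, Q_neg, h.q.Q_smul, s1, s2, h.Qe]
    simp [h.Bij, ik, ij, kj]; linear_combination N * h3
  have h1 : x • e i + y • e k ∈ h.q.ss L hp := h.q.ss_of_rr hF (by simp [h.Bij, ik, ik.symm, ij.symm, kj.symm, h.q.σ_eq, ← mul_assoc, mul_right_comm, s1, s2])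
    r1.2.1.1 (by
      convert h.rr hL r1.2.1 r2.2.1 (by rw [r1.1, r2.1]; simp [h.q.Q_smul, s1, h.Qe]) using 3
      linear_combination (norm := module) (x * h3) • e i)
  refine h.ff hL (T := {i, k, j}) (by have := h.n10; have := Finset.card_le_three (a := i) (b := k) (c := j); omega)
    (hp := hp) (y := v) (h.mem_co.2 fun a b => by simp_all [h.Bij]) (fun a => ?_) (fun w a b => ?_)
    (h.q.ss_refl hv ?_ h1 ?_) fun a => hl (h.mem_co.1 a l (by simp [il.symm, kl.symm, n l hl]))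
  · simpa [h.Bij, ij.symm, kj.symm, h.h2, h.N0] using congrArg (φ.B (e j)) a
  · simp only [co, Finset.coe_insert, Finset.coe_singleton, Set.image_insert_eq, Set.image_singleton,
      Submodule.mem_span_triple] at a
    obtain ⟨a, c, d, rfl⟩ := a
    have : a * x - c * y + d = 0 := mul_left_cancel₀ (mul_ne_zero h.h2 h.N0) (by
      simp [h.Bij, ik, ik.symm, ij, ij.symm, kj, kj.symm, h.q.σ_eq] at b; linear_combination b)
    convert add_mem (Submodule.smul_mem _ d h.q.self_mem_ss) (Submodule.smul_mem _ (a * x - d) h1) using 1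
    match_scalars
    · linear_combination (-a) * s1
    · linear_combination (-y) * this - c * s2 + d * y * h3
    · ring
  · simp [h.q.B_comm v (e _), ← hx, ← hy, s1, s2, hj]
  · simp only [map_add, map_smul, h.q.B_comm v (e _), ← hx, ← hy, smul_eq_mul, s1, s2, one_add_one_eq_two]; exact h.h2

omit hF hL in
theorem good (h3 : (3 : F) ≠ 0) {K : Subgroup φ.Isom} {v : V} (hv : Rf K v) (hv' : ¬ φ.Rt e v) {f : κ}
    (hf : φ.B (e f) v = 0) (hK : ∀ i, φ.B (e i) v ≠ 0 → Rf K (e i)) : ∃ i j, i ≠ j ∧ φ.B (e i) v ≠ 0 ∧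
      (j = f ∨ φ.B (e j) v ≠ 0) ∧ ∃ u ∈ Submodule.span F {e i, e j}, ∃ w, u ≠ 0 ∧ φ.Q w ≠ 0 ∧ φ.B (e i) w = 0 ∧
        φ.B (e j) w = 0 ∧ Rf K (u + w) ∧ 2 * φ.Q u ≠ φ.Q (u + w) ∧ ∀ k, k ≠ f → φ.B (e k) v = 0 → φ.B (e k) w = 0 := by
  by_contra! H
  have N0 := h.N0
  have h2 := h.h2
  have key : ∀ x, Rf K x → (∀ k, φ.B (e k) v = 0 → φ.B (e k) x = 0) → ∀ i j, i ≠ j → φ.B (e i) x ≠ 0 →
      (j = f ∨ φ.B (e j) v ≠ 0) → φ.B (e i) x ^ 2 + φ.B (e j) x ^ 2 = 2 * 2 * N * φ.Q x ∨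
        φ.B (e i) x ^ 2 + φ.B (e j) x ^ 2 = 2 * N * φ.Q x := fun x x1 x2 i j a b c => by
    by_contra! d
    set u := (φ.B (e i) x / (2 * N)) • e i + (φ.B (e j) x / (2 * N)) • e j with hu
    have u1 : φ.B (e i) (x - u) = 0 := by simp [hu, h.Bij, a, h2, N0]
    have u2 : φ.B (e j) (x - u) = 0 := by simp [hu, h.Bij, a.symm, h2, N0]
    have u3 : φ.Q u = (φ.B (e i) x ^ 2 + φ.B (e j) x ^ 2) / (2 * 2 * N) := by
      simp only [hu, h.q.Q_comb, h.Qe, h.orth i j a]; field_simp; ring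
    have u4 := φ.Q_add_of_orth (show φ.B u (x - u) = 0 by
      generalize x - u = y at u1 u2; simp [hu, u1, u2])
    rw [add_sub_cancel] at u4
    obtain ⟨k, k1, k2, k3⟩ := H i j a (mt (x2 i) b) c u (Submodule.mem_span_pair.2 ⟨_, _, rfl⟩) (x - u)
      (fun e => b (by simpa [e] using u1)) (fun e => d.1 (by rw [u4, e, u3]; field_simp; ring)) u1 u2 (by simpa)
      fun e => d.2 (by rw [add_sub_cancel] at e; rw [← e, u3]; field_simp)
    have k4 : k ≠ i := by rintro rfl; exact b (x2 k k2)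
    have k5 : k ≠ j := by rintro rfl; exact c.elim k1 fun a => a k2
    simp [hu, h.Bij, k4, k5, x2 k k2] at k3
  have q0 := mul_ne_zero (mul_ne_zero h2 N0) hv.1
  have n : ∀ i, φ.B (e i) v ≠ 0 → i ≠ f := by rintro i a rfl; exact a hf
  have k1 : ∀ i j, i ≠ j → φ.B (e i) v ≠ 0 → φ.B (e j) v ≠ 0 → φ.B (e i) v ^ 2 = 2 * N * φ.Q v := fun i j a b c => by
    have e1 := key v hv (fun _ => id) i f (n i b) b (Or.inl rfl)
    have e2 := key v hv (fun _ => id) j f (n j c) c (Or.inl rfl)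
    have e3 := key v hv (fun _ => id) i j a b (Or.inr c)
    rw [hf] at e1 e2
    refine (e1.resolve_left fun e1 => ?_).symm ▸ by ring
    rcases e2 with e2 | e2 <;> rcases e3 with e3 | e3
    · exact mul_ne_zero h2 q0 (by linear_combination e3 - e1 - e2)
    · exact mul_ne_zero h3 q0 (by linear_combination e3 - e1 - e2)
    · exact q0 (by linear_combination e3 - e1 - e2)
    · exact mul_ne_zero h2 q0 (by linear_combination e3 - e1 - e2)
  obtain ⟨i, j, l, hi, hj, hl, ij, il, jl⟩ := Finset.two_lt_card_iff.1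
    (h.three_of hv.1 hv' fun i j a b c => by rw [← sq, ← sq, k1 i j a b c, k1 j i a.symm c b])
  rw [mem_supp] at hi hj hl
  have e1 : ∀ k, k ≠ i → φ.B (e k) ((φ.refl v).1 (e i)) = -(φ.Q v)⁻¹ * φ.B (e i) v * φ.B (e k) v := fun k a => by
    simp [h.q.refl_apply, h.orth k i a, h.q.B_comm v]
  have e2 := key _ ((hK i hi).map h.q hv.2) (fun k a => by
    rw [e1 k (by rintro rfl; exact hi a), a, mul_zero]) j l jl (by simp [e1 j ij.symm, hi, hj, hv.1]) (Or.inr hl)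
  have e3 : ∀ k, k ≠ i → φ.B (e k) v ≠ 0 → φ.B (e k) ((φ.refl v).1 (e i)) ^ 2 = (2 * N) ^ 2 := fun k a b => by
    have v0 := hv.1
    rw [e1 k a, mul_pow, mul_pow, k1 i k a.symm hi b, k1 k i a b hi]; field_simp
  rw [e3 j ij.symm hj, e3 l il.symm hl, Isom.Q_map, h.Qe] at e2
  rcases e2 with e2 | e2
  · exact pow_ne_zero 2 (mul_ne_zero h2 N0) (by linear_combination e2)
  · exact mul_ne_zero (mul_ne_zero h3 h2) (pow_ne_zero 2 N0) (by linear_combination e2)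

variable {i j : κ} (ij : i ≠ j) {w : V} (w0 : φ.Q w ≠ 0) (w1 : φ.B (e i) w = 0) (w2 : φ.B (e j) w = 0)
  (hU : Om L (Submodule.span F {e i, e j} ⊔ F ∙ w))
include ij w0 w1 w2 hU

theorem fin5 (h5 : (5 : F) = 0) : φ.E ≤ L := by
  have hp : φ.Q (e i + (2 : F) • e j) = 0 := by
    simp [h.q.Q_add, h.q.Q_smul, h.Qe, h.orth i j ij]; linear_combination N * h5
  have a := Submodule.mem_sup_right (S := Submodule.span F {e i, e j}) (Submodule.mem_span_singleton_self (R := F) w)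
  refine h.ff hL (T := {i, j}) (by have := h.n10; have := Finset.card_le_two (a := i) (b := j); omega) (hp := hp)
    (y := w) (h.mem_co.2 fun a b => by simp_all [h.Bij]) (fun a => ?_) (fun x a b => ?_)
    (h.q.ss_of_om h.h2 hF hU (Submodule.mem_sup_left (Submodule.mem_span_pair.2 ⟨1, 2, by simp⟩)) a
      (by simp [w1, w2]) w0 w a (by simp [w1, w2])) fun a => w0 (by
        rw [h.tot w fun k => by by_cases b : k ∈ ({i, j} : Finset κ) <;> [simp at b; exact h.mem_co.1 a k b]; aesop,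
          Q_zero])
  · simpa [h.Bij, ij, h.h2, h.N0] using congrArg (φ.B (e i)) a
  · exact h.q.ss_of_om h.h2 hF hU (Submodule.mem_sup_left (Submodule.mem_span_pair.2 ⟨1, 2, by simp⟩))
      (Submodule.mem_sup_right (Submodule.mem_span_singleton_self _)) (by simp [w1, w2]) w0 x
      (Submodule.mem_sup_left (by simpa [co, Set.image_insert_eq] using a)) b

omit ij w0 w1 w2 hU hL in
theorem om (p : ℕ) [Fact p.Prime] [CharP F p] {K : Subgroup φ.Isom} (hK : K ⊓ φ.E ≤ L) {i j : κ} (ij : i ≠ j)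
    (hi : Rf K (e i)) (hj : Rf K (e i - e j)) {u w : V} (hu : u ∈ Submodule.span F {e i, e j}) (u0 : u ≠ 0)
    (w0 : φ.Q w ≠ 0) (w1 : φ.B (e i) w = 0) (w2 : φ.B (e j) w = 0) (hx : Rf K (u + w))
    (h1 : 2 * φ.Q u ≠ φ.Q (u + w)) : Om L (Submodule.span F {e i, e j} ⊔ F ∙ w) := fun x a y b c d f g =>
  have y0 : φ.Q y ≠ 0 := fun e => c (by rw [g, e, mul_zero])
  hK ⟨h.q.dick p h.h2 hF hi hj (by rw [h.Qe, h.Qe]) (h.orth i j ij) w1 w2 hu u0 w0 hx h1 a b c f g,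
    h.blk.rr_mem c y0 (by rw [g, chi_mul (mul_ne_zero f f) y0, chi_mul_self, one_mul])⟩

theorem fin7 (p : ℕ) [Fact p.Prime] [CharP F p] (h3 : (3 : F) ≠ 0) (h5 : (5 : F) ≠ 0) {a : V} (ha : Rf L a)
    (ha' : φ.Rt e a) (hE : ∀ g ∈ L, g ∈ φ.E ∨ g * φ.refl a ∈ φ.E) {m m' : κ} (mm : m ≠ m') (im : i ≠ m) (im' : i ≠ m')
    (jm : j ≠ m) (jm' : j ≠ m') (w3 : φ.B (e m) w = 0) (w4 : φ.B (e m') w = 0) : φ.E ≤ L := by
  have N0 := h.N0
  have h2 := h.h2
  have h4 : (4 : F) ≠ 0 := by rw [show (4 : F) = 2 * 2 by norm_num]; exact mul_ne_zero h2 h2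
  have nj := φ.nondegOn_singleton (h.q.B_self_ne_zero h2 (h.rt_e j).1)
  have ow : F ∙ w ≤ φ.perp (F ∙ e j) := (Submodule.span_singleton_le_iff_mem _ _).2 (φ.mem_perp_singleton.2 w2)
  set y := (3 / 5 : F) • e i + (4 / 5 : F) • e j with hy
  have q1 : φ.Q (e i - y) = 4 / 5 * N := by
    rw [show e i - y = (2 / 5 : F) • e i + (-4 / 5 : F) • e j by rw [hy]; match_scalars <;> field_simp; ring,
      h.q.Q_comb, h.Qe, h.Qe, h.orth i j ij]; field_simp; ring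
  obtain ⟨x, x1, x2⟩ := h.q.exists_Q_eq (nj.sup (φ.nondegOn_singleton (h.q.B_self_ne_zero h2 w0)) ow) (by
    rw [finrank_sup_orth nj ow, finrank_span_singleton (h.ne0 j), finrank_span_singleton (by rintro rfl; simp at w0)])
    (φ.Q (e i - y))
  have x3 : ∀ k, k ≠ j → φ.B (e k) w = 0 → φ.B (e k) x = 0 := fun k a b => by
    obtain ⟨u, hu, c, rfl⟩ := mem_sup_one.1 x1
    simp [b, h.mem_ln.1 hu k a]
  have k1 := hU (e i - y) (Submodule.mem_sup_left (Submodule.mem_span_pair.2 ⟨2 / 5, -4 / 5, by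
    rw [hy]; match_scalars <;> field_simp; ring⟩)) x (SetLike.le_def.1 (sup_le_sup_right (Submodule.span_mono (by simp)) _) x1)
    (by simp [q1, h4, h5, N0]) 1 one_ne_zero (by simp [x2])
  set k := φ.refl (e i - y) * φ.refl x with hk
  have k2 : k.1 (e i) = y := by
    rw [hk, Isom.mul_apply, h.q.refl_of_orth (φ.B_symm_zero (x3 i ij w1)), h.q.refl_apply, q1]
    simp only [hy, map_sub, map_add, map_smulₛₗ, LinearMap.sub_apply, LinearMap.add_apply, LinearMap.smul_apply, h.Bij,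
      ij.symm, h.q.σ_eq, if_true, if_false, smul_eq_mul]
    match_scalars <;> field_simp <;> ring
  have k3 : ∀ l, i ≠ l → j ≠ l → φ.B (e l) w = 0 → k.1 (e l) = e l := fun l a b c => by
    rw [hk, Isom.mul_apply, h.q.refl_of_orth (φ.B_symm_zero (x3 l b.symm c)), h.q.refl_of_orth (by simp [hy, h.Bij, a, b])]
  have r1 := h.rt_sub im
  have r2 := h.rt_sub mm
  have k4 := mul_mem (mul_mem k1 (h.rr hL r1.2.1 r2.2.1 (by rw [r1.1, r2.1]))) (inv_mem k1)
  rw [← conj_mul, h.q.refl_conj, h.q.refl_conj, map_sub, map_sub, k2, k3 m im jm w3, k3 m' im' jm' w4] at k4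
  obtain ⟨l, hl⟩ := h.ex [i, j, m, m'] (by simp)
  obtain ⟨l', hl'⟩ := h.ex [i, j, m, m', l] (by simp)
  simp only [List.mem_cons, List.not_mem_nil, or_false, not_or] at hl hl'
  obtain ⟨K, K1, K2, K3⟩ := h.exK hL ha ha' hE (Ne.symm hl'.2.2.2.2)
  have f : ∀ l, l ≠ i → l ≠ j → l ≠ m → l ≠ m' → (φ.refl (y - e m) * φ.refl (e m - e m')).1 (e l) = e l :=
    fun l a b c d => by
      rw [Isom.mul_apply, h.q.refl_of_orth (v := e m - e m') (by simp [h.Bij, c.symm, d.symm]),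
        h.q.refl_of_orth (by simp [hy, h.Bij, a.symm, b.symm, c.symm])]
  have k5 := (K.mul_mem_cancel_right (K3 _ r2.2.1 (by simp [h.Bij, hl]) (by simp [h.Bij, hl'])).2).1
    (K2 _ k4 (f l hl.1 hl.2.1 hl.2.2.1 hl.2.2.2) (f l' hl'.1 hl'.2.1 hl'.2.2.1 hl'.2.2.2.1))
  have q2 : φ.Q (y - e m) = 2 * N := by rw [← k2, ← k3 m im jm w3, ← map_sub, Isom.Q_map, r1.1]
  have e1 : y - e m = ((3 / 5 : F) • e i + (-1 : F) • e m) + (4 / 5 : F) • e j := by rw [hy]; module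
  have hT := h.om hF p K1 im (K3 _ (h.rt_e i) (by simp [h.Bij, hl]) (by simp [h.Bij, hl']))
    (K3 _ r1.2.1 (by simp [h.Bij, hl]) (by simp [h.Bij, hl'])) (Submodule.mem_span_pair.2 ⟨3 / 5, -1, rfl⟩)
    (fun a => by simpa [h.Bij, im, h2, h3, h5, N0] using congrArg (φ.B (e i)) a) (w := (4 / 5 : F) • e j)
    (by simp [h.q.Q_smul, h.Qe, h4, h5, N0]) (by simp [h.Bij, ij]) (by simp [h.Bij, jm.symm])
    (by rw [← e1]; exact ⟨q2 ▸ mul_ne_zero h2 N0, k5⟩) (by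
      rw [← e1, q2, h.q.Q_comb, h.Qe, h.Qe, h.orth i m im]
      intro a; field_simp at a
      exact mul_ne_zero (mul_ne_zero h3 h3) N0 (by linear_combination a))
  rw [Submodule.span_singleton_smul_eq (by simp [h4, h5])] at hT
  have cT : co F e {i, j, m} ≤ Submodule.span F {e i, e m} ⊔ F ∙ e j := by
    rw [← Submodule.span_union]; exact Submodule.span_mono (by simp [Set.image_insert_eq, Set.insert_subset_iff])
  have nd := h.nd {i, j}
  obtain ⟨u, u1, u2⟩ := h.q.exists_Q_eq (h.nd {i, j}) (by rw [h.finrank_co, Finset.card_pair ij]) (-N)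
  simp only [co, Finset.coe_insert, Finset.coe_singleton, Set.image_insert_eq, Set.image_singleton,
    Submodule.mem_span_pair] at u1
  obtain ⟨s, t, rfl⟩ := u1
  rw [h.q.Q_comb, h.Qe, h.Qe, h.orth i j ij] at u2
  have hp : φ.Q (s • e i + t • e j + e m) = 0 := by
    rw [h.q.Q_add, h.q.Q_comb]; simp [h.Qe, h.Bij, ij, im, jm]; linear_combination u2
  have q3 : φ.Q (t • e i + (-s) • e j) = -N := by rw [h.q.Q_comb, h.Qe, h.Qe, h.orth i j ij]; linear_combination u2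
  have pT : s • e i + t • e j + e m ∈ co F e {i, j, m} := h.mem_co.2 fun a b => by simp_all [h.Bij]
  have uT : t • e i + (-s) • e j ∈ co F e {i, j, m} := h.mem_co.2 fun a b => by simp_all [h.Bij]
  have b1 : φ.B (s • e i + t • e j + e m) (t • e i + (-s) • e j) = 0 := by
    simp [h.Bij, ij, ij.symm, im.symm, jm.symm, h.q.σ_eq]; ring
  have p0 : φ.B (e m) (s • e i + t • e j + e m) ≠ 0 := by simp [h.Bij, im.symm, jm.symm, h2, N0]
  have r3 := h.rt_sub (Ne.symm hl.2.2.1)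
  have r4 := h.rt_sub (Ne.symm hl'.2.2.2.2)
  have t1 := h.rr hL r3.2.1 r4.2.1 (by rw [r3.1, r4.1])
  set t0 := φ.refl (e m - e l) * φ.refl (e l - e l') with ht
  have t2 : t0.1 (e m) = e l := by
    rw [ht, Isom.mul_apply, h.q.refl_of_orth (v := e l - e l') (by simp [h.Bij, hl, hl']), r3.2.2]
  have t3 : ∀ k, m ≠ k → l ≠ k → l' ≠ k → t0.1 (e k) = e k := fun k a b c => by
    rw [ht, Isom.mul_apply, h.q.refl_of_orth (v := e l - e l') (by simp [h.Bij, b, c]),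
      h.q.refl_of_orth (by simp [h.Bij, a, b])]
  have t5 : t0.1 (t • e i + (-s) • e j) = t • e i + (-s) • e j := by
    simp only [map_add, map_smul, t3 i im.symm hl.1 hl'.1, t3 j jm.symm hl.2.1 hl'.2.1]
  have b2 : φ.B (e m) (t • e i + (-s) • e j) = 0 := by simp [h.Bij, im.symm, jm.symm]
  have lT : l ∉ ({i, j, m} : Finset κ) := by simp [hl]
  generalize t • e i + (-s) • e j = u at *
  generalize s • e i + t • e j + e m = y at *
  have S := h.q.ss_of_om h2 hF hT (hp := hp) (cT pT) (cT uT) b1 (by simp [q3, N0])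
  have q4 : φ.Q ((4 : F) • u + (5 : F) • e m) = 3 * 3 * φ.Q (e m) := by
    rw [h.q.Q_comb, q3, h.Qe, φ.B_symm_zero b2]; ring
  have t4 := mul_mem (mul_mem t1 (hT _ (add_mem (Submodule.smul_mem _ _ (cT uT)) (Submodule.smul_mem _ _
    (cT (e_mem (by simp))))) _ (cT (e_mem (by simp))) (by simp [q4, h.Qe, h3, N0]) 3 h3 q4)) (inv_mem t1)
  have q5 := Isom.Q_map t0 ((4 : F) • u + (5 : F) • e m)
  rw [← conj_mul, h.q.refl_conj, h.q.refl_conj] at t4
  simp only [map_add, map_smul, t2, t5] at t4 q5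
  have b3 := h.mem_co.1 pT l lT
  have b4 := h.mem_co.1 uT l lT
  refine h.ff hL (T := {i, j, m}) (by have := h.n10; have := Finset.card_le_three (a := i) (b := j) (c := m); omega)
    pT (fun a => p0 (by simp [a])) (fun w a b => S w (cT a) b) (h.q.ss_refl₂ (by simp [q5, q4, h.Qe, h3, N0]) t4
      (by simp [φ.B_symm_zero b1, b3]) b3 (S _ (cT uT) b1) b4 (by simp [b4, h.q.B_self, q3, h2, h4, N0, h.q.σ_eq]))
    fun a => by simpa [h.Bij, b4, h2, h5, N0] using h.mem_co.1 a l lT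

omit ij w0 w1 w2 hU in
theorem gf {a v : V} (ha : Rf L a) (ha' : φ.Rt e a) (hE : ∀ g ∈ L, g ∈ φ.E ∨ g * φ.refl a ∈ φ.E) (hv : Rf L v)
    (hv' : ¬ φ.Rt e v) : φ.E ≤ L := by
  have n := h.n10
  have nr : ∀ x, 3 ≤ (φ.supp e x).card → ¬ φ.Rt e x := fun x a b => by have := h.root_supp b; omega
  have c := fun x => Finset.card_le_univ (φ.supp e x)
  have rf : ∀ b, φ.Rt e b → chi (φ.Q a) = chi (φ.Q b) → Rf L b := fun b b1 b2 => h.blk.rf hL ha ha'.2 b1.2 b1.1 b2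
  obtain ⟨x, x1, x2, x3⟩ : ∃ x, Rf L x ∧ ¬ φ.Rt e x ∧ (φ.supp e x).card + 2 ≤ Fintype.card κ := by
    by_cases b : (φ.supp e v).card ≤ 8
    · exact ⟨v, hv, hv', by omega⟩
    obtain ⟨T, t1, t2⟩ := Finset.exists_subset_card_eq (s := φ.supp e v) (n := 4) (by omega)
    obtain ⟨z, z1, z2, z3, -⟩ := h.neg T
    obtain ⟨x, x1, -, x2, x3⟩ := h.cut hv t1 (by omega) (by omega) (by omega) z1 (hL ⟨z3 (by rw [t2]; decide), z2⟩)
      fun i _ j _ ij x hx => by
        rcases h.root_chi ha' with d | d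
        · exact ⟨_, e_mem (by simp), rf _ (h.rt_e i) (by rw [d, h.Qe]), by rwa [h.q.B_comm]⟩
        by_contra! H
        have a1 := H _ (add_mem (e_mem (by simp)) (e_mem (by simp))) (rf _ (h.rt_add ij).2 (by rw [d, (h.rt_add ij).1]))
        have a2 := H _ (sub_mem (e_mem (by simp)) (e_mem (by simp))) (rf _ (h.rt_sub ij).2.1 (by rw [d, (h.rt_sub ij).1]))
        simp only [map_add, map_sub, h.q.B_comm x (e _)] at a1 a2
        exact mul_ne_zero h.h2 hx (by linear_combination a1 + a2)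
    exact ⟨x, x1, nr x x2, by have := c v; omega⟩
  obtain ⟨m, m1, -⟩ := ex_not (φ.supp e x) [] (by simp; omega)
  obtain ⟨m', m2, mm⟩ := ex_not (φ.supp e x) [m] (by simp; omega)
  simp only [mem_supp, not_not, List.mem_singleton] at m1 m2 mm
  by_cases h3 : (3 : F) = 0
  · exact h.gf3 hF hL h3 x1 x2 m1
  obtain ⟨K, K1, K2, K3⟩ := h.exK hL ha ha' hE mm
  have n1 : ∀ i, φ.B (e i) x ≠ 0 → m' ≠ i ∧ m ≠ i := fun i a => ⟨by rintro rfl; exact a m2, by rintro rfl; exact a m1⟩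
  have K4 : ∀ i, m' ≠ i → m ≠ i → Rf K (e i) := fun i a b => K3 _ (h.rt_e i) (h.orth _ _ a) (h.orth _ _ b)
  replace x1 : Rf K x := ⟨x1.1, K2 _ x1.2 (h.q.refl_of_orth (φ.B_symm_zero m2)) (h.q.refl_of_orth (φ.B_symm_zero m1))⟩
  obtain ⟨y, y1, y2, y3, f, f1, f2, f3⟩ : ∃ y, Rf K y ∧ ¬ φ.Rt e y ∧ φ.supp e y ⊆ φ.supp e x ∧
      ∃ f, φ.B (e f) y = 0 ∧ m' ≠ f ∧ m ≠ f := by
    by_cases b : (φ.supp e x).card ≤ 7
    · obtain ⟨f, f1, f2⟩ := ex_not (φ.supp e x) [m, m'] (by simp; omega)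
      simp only [mem_supp, not_not, List.mem_cons, List.not_mem_nil, or_false, not_or] at f1 f2
      exact ⟨x, x1, x2, subset_rfl, f, f1, Ne.symm f2.2, Ne.symm f2.1⟩
    obtain ⟨T, t1, t2⟩ := Finset.exists_subset_card_eq (s := φ.supp e x) (n := 3) (by omega)
    obtain ⟨z, z1, -, -, z2⟩ := h.neg T
    have K5 := fun i a => K4 i (n1 i (mem_supp.1 a)).1 (n1 i (mem_supp.1 a)).2
    obtain ⟨y, y1, y2, y3, y4⟩ := h.cut x1 t1 (by omega) (by omega) (by omega) z1 (z2 K fun i a => (K5 i (t1 a)).2)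
      fun i a j _ ij x hx => ⟨_, e_mem (by simp), K5 i a, by rwa [h.q.B_comm]⟩
    obtain ⟨f, f1, f2⟩ := Finset.exists_mem_notMem_of_card_lt_card (s := φ.supp e y) (t := φ.supp e x) (by omega)
    exact ⟨y, y1, nr y y3, y2, f, by simpa [mem_supp] using f2, n1 f (mem_supp.1 f1)⟩
  have n2 : ∀ i, φ.B (e i) y ≠ 0 → m' ≠ i ∧ m ≠ i := fun i a => n1 i (mem_supp.1 (y3 (mem_supp.2 a)))
  obtain ⟨i, j, ij, i1, j1, u, u1, w, u0, w0, w1, w2, r, q, w3⟩ := h.good h3 y1 y2 f1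
    fun i a => K4 i (n2 i a).1 (n2 i a).2
  have i2 := n2 i i1
  have j2 : m' ≠ j ∧ m ≠ j := j1.elim (fun a => a ▸ ⟨f2, f3⟩) (n2 j)
  obtain ⟨p, _, -, hp, -⟩ := @FiniteField.card' F _ (Fintype.ofFinite F)
  have := Fact.mk hp
  have hU := h.om hF p K1 ij (K4 i i2.1 i2.2) (K3 _ (h.rt_sub ij).2.1 (by simp [h.Bij, i2, j2])
    (by simp [h.Bij, i2, j2])) u1 u0 w0 w1 w2 r q
  by_cases h5 : (5 : F) = 0
  · exact h.fin5 hF hL ij w0 w1 w2 hU h5
  exact h.fin7 hF hL ij w0 w1 w2 hU p h3 h5 ha ha' hE mm i2.1.symm i2.2.symm j2.1.symm j2.2.symm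
    (w3 _ f2 (by_contra fun a => (n2 _ a).1 rfl)) (w3 _ f3 (by_contra fun a => (n2 _ a).2 rfl))

end Fr
end Form
end H10
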