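import Mathlib
import Cfsg.Agent.H10.FrE

/-! # Orthogonal frames in odd dimension `≥ 7`: `isMaximalIn_frameO` -/

namespace H10

open Module

namespace Form
variable {F V : Type*} [Field F] [AddCommGroup V] [Module F V] {φ : Form F V} {κ : Type*} [Fintype κ] [DecidableEq κ]

namespace Fr7
variable [φ.Nondeg] [FiniteDimensional F V] [Finite F] {e : κ → V} {N : F} (h : φ.Fr7 e N)
include h

theorem le_dstab' (hF : ∀ c : F, ∃ n : ℕ, c = n) (h7 : Odd (Fintype.card κ)) {M : Subgroup φ.Isom}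
    (hM : φ.E ⊓ φ.dstab (ln F e) ≤ M) (hM' : M ≤ φ.E) (hE : ¬ φ.E ≤ M) {g : φ.Isom} (hg : g ∈ M) : g ∈ φ.dstab (ln F e) := by
  obtain ⟨i, -⟩ := h.ex [] (by simp)
  have ha := h.rt_e i
  obtain ⟨t, t1, t2, t3, -⟩ := h.neg {i}ᶜ
  have t4 := hM ⟨t3 (by rw [Finset.card_compl, Finset.card_singleton]; exact Nat.Odd.sub_odd h7 odd_one), t2⟩
  have t5 : ∀ x, (φ.refl (e i)).1 x = -t.1 x := fun x => by
    obtain ⟨u, a, w, b, rfl⟩ := h.split {i}ᶜ x
    obtain ⟨c, rfl⟩ := Submodule.mem_span_singleton.1 (h.mem_ln (i := i).2 (by simpa using h.mem_co.1 b))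
    rw [map_add, map_add, t1.1 u a, t1.2 _ (h.perp_of b), h.q.refl_of_orth (h.mem_co.1 a i (by simp)), map_smul,
      h.q.refl_self ha.1]; module
  have r1 := h.q.refl_mul_self (e i)
  have t6 : ∀ g ∈ M, g ∈ rex M _ r1 := fun g hg => .inl ⟨hg, by
    convert mul_mem (mul_mem t4 hg) t4 using 1
    exact Isom.ext fun x => by simp [Isom.mul_apply, t5]⟩
  set L := rex M _ r1
  have h1 : φ.E ⊓ φ.dstab (ln F e) ≤ L := fun x hx => t6 x (hM hx)
  have h2 : Rf L (e i) := ⟨ha.1, Or.inr (by simp [r1])⟩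
  have h3 : ∀ g ∈ L, g ∈ φ.E ∨ g * φ.refl (e i) ∈ φ.E := fun g hg => hg.imp (fun e => hM' e.1) fun e => hM' e.1
  have h5 : ¬ φ.E ≤ L := fun e => hE fun x hx => (e hx).elim And.left fun e =>
    (h.blk.refl_not_mem ha.1 ((φ.E.mul_mem_cancel_left hx).1 (hM' e.1))).elim
  exact h.fr ha fun b b1 b2 => by_contra fun c => h5 (h.gf hF h1 (fun j => h.blk.rf h1 h2 ha.2 (h.rt_e j).2 (h.rt_e j).1
    (by rw [h.Qe, h.Qe])) h2 ha h3 ((h.blk.rf h1 h2 ha.2 b1.2 b1.1 b2).map h.q (t6 g hg)) c)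

end Fr7
end Form

section gl
open Matrix Cfsg Cfsg.Geo

/-- stabilisers of orthogonal frames over prime fields -/
theorem isMaximalIn_frameO {ι : Type} [Fintype ι] [DecidableEq ι] {F : Type*} [Field F] [Fintype F]
    {Q : (ι → F) → F} (hQ : IsNondegenerateQuadraticForm Q) (hn : 7 ≤ Fintype.card ι) (ho : Odd (Fintype.card ι))
    (hp : (Fintype.card F).Prime) {t : ℕ} {D : Fin t → Submodule F (ι → F)} (hD : IsOrthogonalMDecomposition Q 1 D) :
    IsMaximalIn (omegaGL Q) (decompositionStabilizer D ⊓ omegaGL Q) := by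
  obtain ⟨Q, rfl, _⟩ := exists_ofQuad hQ
  have h := blk_of (by omega) hD
  have hc := card_eq_of_dec hD.decomp.decomp
  have hF : ∀ c : F, ∃ n : ℕ, c = n := fun c => by
    have := Fact.mk hp
    obtain ⟨x, rfl⟩ := (ZMod.ringEquivOfPrime F hp rfl).surjective c
    exact ⟨x.val, by rw [← map_natCast (ZMod.ringEquivOfPrime F hp rfl), ZMod.natCast_zmod_val]⟩
  obtain ⟨i⟩ : Nonempty (Fin t) := ⟨⟨0, by omega⟩⟩
  have := (h.od.nondeg i).nondeg
  have h2 := (h.q.restrict (D i)).two_ne_zero_of_odd (by rw [h.rk]; exact odd_one)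
  obtain ⟨a, ha, a0⟩ := h.q.exists_Q_ne (h.od.nondeg i) fun e => by have := h.rk i; rw [e, finrank_bot] at this; omega
  choose e e1 e2 e3 using h.exists_eq ha (by rintro rfl; simp at a0)
  obtain rfl : D = Form.ln F e := funext fun j => (Submodule.eq_of_le_of_finrank_le
    ((Submodule.span_singleton_le_iff_mem _ _).2 (e1 j)) (by rw [h.rk, finrank_span_singleton (e2 j)])).symm
  have f : (Form.ofQuad Q).Fr7 e _ := ⟨h.q, h2, a0, e3, fun i j a => h.od.orth i j a (e1 j) _ (e1 i),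
    fun x a => h.od.eq_zero fun i => (Form.ofQuad Q).mem_perp_singleton.2 (a i), by simp; omega⟩
  rw [omegaGL_eq_E _ (by omega)]
  refine isMaximalIn_map _ (by rw [comap_decompositionStabilizer]; exact f.not_E_le) fun M hM g hg hg1 hg2 => ?_
  rw [comap_decompositionStabilizer] at hM
  by_contra hE
  exact hg2 ((comap_decompositionStabilizer _).ge (f.le_dstab' hF (by simpa [hc] using ho) (M := M ⊓ (Form.ofQuad Q).E)
    (le_inf hM inf_le_left) inf_le_right (fun e => hE (e.trans inf_le_left)) ⟨hg, hg1⟩))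

end gl
end H10
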