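import Mathlib
import Cfsg.Agent.H10.FrD

/-! # Orthogonal frames in dimension five: basic lemmas -/

namespace H10

open Module

namespace Form
variable {F V : Type*} [Field F] [AddCommGroup V] [Module F V] {φ : Form F V} {κ : Type*} [Fintype κ] [DecidableEq κ]

variable (φ) in
/-- orthogonal basis of vectors of norm `N` -/
structure Fr5 (e : κ → V) (N : F) : Prop where
  q : φ.IsQuad
  h2 : (2 : F) ≠ 0
  N0 : N ≠ 0
  Qe : ∀ i, φ.Q (e i) = N
  orth : ∀ i j, i ≠ j → φ.B (e i) (e j) = 0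
  tot : ∀ x, (∀ i, φ.B (e i) x = 0) → x = 0
  n10 : 5 ≤ Fintype.card κ

open Fr (e_mem)

namespace Fr5
variable {e : κ → V} {N : F} (h : φ.Fr5 e N) {T : Finset κ} {x y : V} {i j : κ}
include h

omit [DecidableEq κ] in
theorem ex (l : List κ) (hl : l.length < 5) : ∃ i, i ∉ l := by
  classical exact (ex_not ∅ l (by have := h.n10; simp; omega)).imp fun _ a => a.2

omit [DecidableEq κ] in
theorem Bee (i : κ) : φ.B (e i) (e i) = 2 * N := by rw [h.q.B_self, h.Qe]

theorem Bij (i j : κ) : φ.B (e i) (e j) = if i = j then 2 * N else 0 := by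
  split_ifs with a
  exacts [a ▸ h.Bee i, h.orth i j a]

theorem expand (x : V) : x = ∑ i, (φ.B (e i) x / (2 * N)) • e i :=
  sub_eq_zero.1 (h.tot _ fun j => by simp [h.Bij, h.h2, h.N0])

theorem mem_co : x ∈ co F e T ↔ ∀ i ∉ T, φ.B (e i) x = 0 := by
  refine ⟨fun hx i hi => ?_, fun hx => ?_⟩
  · induction hx using Submodule.span_induction with
    | mem x hx => obtain ⟨j, hj, rfl⟩ := hx; exact h.orth i j (by rintro rfl; exact hi hj)
    | _ => simp_all
  · rw [h.expand x]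
    exact sum_mem fun i _ => by by_cases a : i ∈ T <;> simp [Submodule.smul_mem, e_mem, a, hx i]

theorem mem_ln : x ∈ ln F e i ↔ ∀ j, j ≠ i → φ.B (e j) x = 0 := by
  simpa [co] using h.mem_co (x := x) (T := {i})

theorem mem_pair : x ∈ Submodule.span F {e i, e j} ↔ ∀ k, k ≠ i → k ≠ j → φ.B (e k) x = 0 := by
  simpa [co, Set.image_insert_eq] using h.mem_co (x := x) (T := {i, j})

theorem perp_co : φ.perp (co F e T) = co F e Tᶜ := by
  ext x; rw [h.mem_co, co, mem_perp_span]; simp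

theorem perp_of (hx : x ∈ co F e Tᶜ) : x ∈ φ.perp (co F e T) := by rwa [h.perp_co]

theorem nd (T : Finset κ) : φ.NondegOn (co F e T) := fun x hx H => h.tot x fun i => by
  by_cases a : i ∈ T
  exacts [φ.B_symm_zero (H _ (e_mem a)), h.mem_co.1 hx i a]

theorem split (T : Finset κ) (x : V) : ∃ u ∈ co F e T, ∃ w ∈ co F e Tᶜ, x = u + w := by
  refine ⟨∑ i ∈ T, (φ.B (e i) x / (2 * N)) • e i, sum_mem fun i a => Submodule.smul_mem _ _ (e_mem a),
    ∑ i ∈ Tᶜ, (φ.B (e i) x / (2 * N)) • e i, sum_mem fun i a => Submodule.smul_mem _ _ (e_mem a), ?_⟩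
  rw [Finset.sum_add_sum_compl, ← h.expand]

theorem li : LinearIndependent F e := Fintype.linearIndependent_iff.2 fun c hc i => by
  simpa [h.Bij, h.h2, h.N0] using congrArg (φ.B (e i)) hc

theorem finrank_co (T : Finset κ) : finrank F (co F e T) = T.card := by
  rw [co, Set.image_eq_range, finrank_span_eq_card (b := fun x : (T : Set κ) => e x)
    (h.li.comp _ Subtype.val_injective)]; simp

theorem finrank_eq : finrank F V = Fintype.card κ := by
  rw [← finrank_top, ← show co F e Finset.univ = ⊤ from eq_top_iff.2 fun x _ => h.mem_co.2 (by simp), h.finrank_co,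
    Finset.card_univ]

omit [DecidableEq κ] in
theorem ne0 (i : κ) : e i ≠ 0 := fun a => h.N0 (by rw [← h.Qe i, a, Q_zero])

variable [φ.Nondeg] [FiniteDimensional F V]

omit [φ.Nondeg] [FiniteDimensional F V] in
theorem blk : φ.Blk (ln F e) 1 :=
  ⟨h.q, ⟨fun i => φ.nondegOn_singleton (by simp [h.Bee, h.h2, h.N0]), fun i j a =>
    (Submodule.span_singleton_le_iff_mem _ _).2 (φ.mem_perp_singleton.2 (h.orth i j a)), eq_top_iff.2 fun x _ => by
      rw [h.expand x]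
      exact sum_mem fun i _ => Submodule.mem_iSup_of_mem i (Submodule.smul_mem _ _
        (Submodule.mem_span_singleton_self _))⟩, fun i => finrank_span_singleton (h.ne0 i),
    fun i j => isEquiv_singleton (fun _ => rfl) (fun _ => rfl) rfl (h.ne0 i) (h.ne0 j) (by rw [h.Qe, h.Qe]), by have := h.n10; rw [h.finrank_eq]; omega⟩

omit [φ.Nondeg] in
theorem mem_dstab {g : φ.Isom} : g ∈ φ.dstab (ln F e) ↔ ∀ i, ∃ j, g.1 (e i) ∈ ln F e j :=
  ⟨fun ⟨σ, a⟩ i => ⟨σ i, a i ▸ ⟨_, Submodule.mem_span_singleton_self _, rfl⟩⟩, fun a =>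
    h.blk.od.mem_dstab_of_le h.blk.rk one_pos fun i => (a i).imp fun j b => by
      rwa [Submodule.map_span, Set.image_singleton, Submodule.span_singleton_le_iff_mem]⟩

theorem root {u w : V} (hij : i ≠ j) (hu : u ∈ ln F e i) (hw : w ∈ ln F e j) (h0 : φ.Q u ≠ 0) (h1 : φ.Q w = φ.Q u) :
    φ.Q (u + w) = 2 * φ.Q u ∧ φ.Rt e (u + w) ∧ (φ.refl (u + w)).1 u = -w := by
  have o : φ.B u w = 0 := h.blk.od.orth i j hij hw u hu
  have q : φ.Q (u + w) = 2 * φ.Q u := by rw [φ.Q_add_of_orth o, h1, two_mul]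
  have q0 := mul_ne_zero h.h2 h0
  have r1 : (φ.refl (u + w)).1 u = -w := by
    rw [h.q.refl_apply, q, map_add, LinearMap.add_apply, h.q.B_self, φ.B_symm_zero o, add_zero, neg_mul,
      inv_mul_cancel₀ q0]; module
  have r2 : (φ.refl (u + w)).1 w = -u := by rw [← h.q.refl_inv, Isom.inv_apply_eq, map_neg, r1, neg_neg]
  refine ⟨q, ⟨q ▸ q0, h.mem_dstab.2 fun k => ?_⟩, r1⟩
  have a : ∀ {i j u w}, u ∈ ln F e i → φ.Q u ≠ 0 → w ∈ ln F e j → ∀ r : φ.Isom, r.1 u = -w →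
      r.1 (e i) ∈ ln F e j := fun hu h0 hw r hr => by
    obtain ⟨c, rfl⟩ := Submodule.mem_span_singleton.1 hu
    exact (Submodule.smul_mem_iff _ (by rintro rfl; simp at h0)).1 (map_smul r.1 c _ ▸ hr ▸ neg_mem hw)
  by_cases a1 : k = i
  · exact ⟨j, a1 ▸ a hu h0 hw _ r1⟩
  by_cases a2 : k = j
  · exact ⟨i, a2 ▸ a hw (h1 ▸ h0) hu _ r2⟩
  exact ⟨k, by
    rw [h.q.refl_of_orth (φ.B_symm_zero (by simp [h.mem_ln.1 hu k a1, h.mem_ln.1 hw k a2]))]
    exact Submodule.mem_span_singleton_self _⟩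

variable [Finite F]

theorem rt_ln (hx : x ∈ ln F e i) (h0 : x ≠ 0) : φ.Rt e x := by
  refine ⟨?_, h.blk.refl_mem hx⟩
  obtain ⟨c, rfl⟩ := Submodule.mem_span_singleton.1 hx
  simpa [h.q.Q_smul, h.Qe, h.N0, h.ne0] using h0

theorem rt_e (i : κ) : φ.Rt e (e i) := h.rt_ln (Submodule.mem_span_singleton_self _) (h.ne0 i)

theorem rt_sub (hij : i ≠ j) : φ.Q (e i - e j) = 2 * N ∧ φ.Rt e (e i - e j) ∧ (φ.refl (e i - e j)).1 (e i) = e j := by
  simpa [h.Qe, ← sub_eq_add_neg] using h.root hij (Submodule.mem_span_singleton_self _)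
    (neg_mem (Submodule.mem_span_singleton_self _)) (h.rt_e i).1 (by simp [h.Qe])

theorem rt_add (hij : i ≠ j) : φ.Q (e i + e j) = 2 * N ∧ φ.Rt e (e i + e j) := by
  have := h.root hij (Submodule.mem_span_singleton_self _) (Submodule.mem_span_singleton_self _) (h.rt_e i).1
    (by simp [h.Qe])
  exact ⟨h.Qe i ▸ this.1, this.2.1⟩

theorem rt_diff {w : V} (hw : w ∈ ln F e j) (h1 : φ.Q w = N) (h0 : e i + w ≠ 0) : φ.Rt e (e i + w) := by
  by_cases a : i = j
  · exact h.rt_ln (add_mem (Submodule.mem_span_singleton_self _) (a ▸ hw)) h0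
  · exact (h.root a (Submodule.mem_span_singleton_self _) hw (h.rt_e i).1 (by rw [h1, h.Qe])).2.1

theorem root_cls (hx : φ.Rt e x) (hi : φ.B (e i) x ≠ 0) : x ∈ ln F e i ∧ chi (φ.Q x) = chi N ∨
    ∃ j, j ≠ i ∧ x ∈ Submodule.span F {e i, e j} ∧ chi (φ.Q x) = chi (2 * N) := by
  obtain ⟨j, hj⟩ := h.mem_dstab.1 hx.2 i
  have q := Isom.Q_map (φ.refl x) (e i)
  have c0 : (φ.Q x)⁻¹ * φ.B x (e i) ≠ 0 := by simp [hx.1, h.q.B_comm x, hi]
  have e1 : ((φ.Q x)⁻¹ * φ.B x (e i)) • x = e i + -(φ.refl x).1 (e i) := by rw [h.q.refl_apply]; module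
  by_cases a : j = i
  · have := (Submodule.smul_mem_iff _ c0).1
      (e1 ▸ add_mem (Submodule.mem_span_singleton_self _) (neg_mem (a ▸ hj)) : _ ∈ ln F e i)
    refine Or.inl ⟨this, ?_⟩
    obtain ⟨c, rfl⟩ := Submodule.mem_span_singleton.1 this
    rw [h.q.Q_smul, h.Qe, chi_mul (by simp_all) h.N0, chi_mul_self, one_mul]
  refine Or.inr ⟨j, a, (Submodule.smul_mem_iff _ c0).1 (e1 ▸ add_mem (Submodule.subset_span (by simp))
    (neg_mem (Submodule.span_mono (by simp) hj))), ?_⟩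
  have := (h.root (Ne.symm a) (Submodule.mem_span_singleton_self _) (neg_mem hj) (h.rt_e i).1 (by simp)).1
  rw [← e1, h.q.Q_smul, h.Qe] at this
  rw [← this, chi_mul (mul_ne_zero c0 c0) hx.1, chi_mul_self, one_mul]

theorem root_ex (hx : φ.Rt e x) : ∃ i, φ.B (e i) x ≠ 0 := by
  by_contra! H; exact hx.1 (by rw [h.tot x H, Q_zero])

theorem root_chi (hx : φ.Rt e x) : chi (φ.Q x) = chi N ∨ chi (φ.Q x) = chi (2 * N) :=
  (h.root_ex hx).elim fun _ a => (h.root_cls hx a).imp And.right fun ⟨_, a⟩ => a.2.2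

theorem root_at (hx : φ.Rt e x) (hi : φ.B (e i) x ≠ 0) : ∃ j, j ≠ i ∧ x ∈ Submodule.span F {e i, e j} := by
  rcases h.root_cls hx hi with a | ⟨j, a⟩
  · obtain ⟨j, hj⟩ := h.ex [i] (by simp)
    exact ⟨j, by simpa using hj, Submodule.span_mono (by simp) a.1⟩
  · exact ⟨j, a.1, a.2.1⟩

theorem root_supp (hx : φ.Rt e x) : (φ.supp e x).card ≤ 2 := by
  obtain ⟨i, hi⟩ := h.root_ex hx
  obtain ⟨j, -, hj⟩ := h.root_at hx hi
  exact (Finset.card_le_card fun k hk => by
    by_contra a; simp only [Finset.mem_insert, Finset.mem_singleton, not_or] at a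
    exact mem_supp.1 hk (h.mem_pair.1 hj k a.1 a.2)).trans (Finset.card_le_two (a := i) (b := j))

theorem three_of (h0 : φ.Q x ≠ 0) (hx : ¬ φ.Rt e x) (H : ∀ i j, i ≠ j → φ.B (e i) x ≠ 0 → φ.B (e j) x ≠ 0 →
    φ.B (e i) x * φ.B (e i) x = φ.B (e j) x * φ.B (e j) x) : 3 ≤ (φ.supp e x).card := by
  by_contra! a
  have x0 : x ≠ 0 := by rintro rfl; simp at h0
  obtain ⟨i, hi⟩ : ∃ i, φ.B (e i) x ≠ 0 := by by_contra! H; exact x0 (h.tot x H)
  obtain ⟨j, hj, hj'⟩ : ∃ j, j ≠ i ∧ φ.B (e j) x ≠ 0 := by by_contra! H; exact hx (h.rt_ln (h.mem_ln.2 H) x0)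
  obtain ⟨s, t, rfl⟩ := Submodule.mem_span_pair.1 (h.mem_pair (i := i) (j := j).2 fun k k1 k2 => by
    by_contra b
    exact absurd (Finset.two_lt_card_iff.2 ⟨i, j, k, mem_supp.2 hi, mem_supp.2 hj', mem_supp.2 b, hj.symm, k1.symm,
      k2.symm⟩) (by omega))
  have := H i j hj.symm hi hj'
  simp only [map_add, map_smul, h.Bij, hj, hj.symm, smul_eq_mul, if_true, if_false] at this hi
  refine hx (h.root hj.symm (Submodule.smul_mem _ s (Submodule.mem_span_singleton_self _))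
    (Submodule.smul_mem _ t (Submodule.mem_span_singleton_self _)) (by simp_all [h.q.Q_smul, h.Qe, h.N0]) ?_).2.1
  rw [h.q.Q_smul, h.q.Q_smul, h.Qe, h.Qe]
  exact mul_left_cancel₀ (mul_ne_zero (mul_ne_zero h.h2 h.h2) h.N0) (by linear_combination -this)

theorem neg (T : Finset κ) : ∃ z, Neg z (co F e T) ∧ z ∈ φ.dstab (ln F e) ∧ (Even T.card → z ∈ φ.E) ∧
    ∀ K : Subgroup φ.Isom, (∀ i ∈ T, φ.refl (e i) ∈ K) → z ∈ K := by
  suffices H : ∃ z, Neg z (co F e T) ∧ φ.dickson z = (-1) ^ T.card ∧ φ.spinor z = chi N ^ T.card ∧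
      ∀ K : Subgroup φ.Isom, (∀ i ∈ T, φ.refl (e i) ∈ K) → z ∈ K by
    obtain ⟨z, a, b, c, d⟩ := H
    exact ⟨z, a, d _ fun i _ => (h.rt_e i).2, fun e => h.blk.mem_E.2 ⟨by rw [b, e.neg_one_pow], by
      obtain ⟨k, hk⟩ := e; rw [c, hk, pow_add, Int.units_mul_self]⟩, d⟩
  induction T using Finset.induction_on with
  | empty => exact ⟨1, ⟨fun x hx => by simp_all [co], fun _ _ => rfl⟩, by simp, by simp, fun K _ => one_mem K⟩
  | insert i T hi ih =>
    obtain ⟨z, a, b, c, d⟩ := ih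
    have r := (h.rt_e i).1
    refine ⟨φ.refl (e i) * z, ?_, by simp [b, hi, pow_succ', h.q.dickson_refl h.blk.good r],
      by simp [c, hi, pow_succ', h.q.spinor_refl h.blk.good r, h.Qe], fun K hK =>
        mul_mem (hK i (by simp)) (d K fun j hj => hK j (by simp [hj]))⟩
    rw [co, Finset.coe_insert, Set.image_insert_eq, Submodule.span_insert]
    refine Neg.mul ⟨fun x hx => ?_, fun x hx => h.q.refl_of_orth (φ.mem_perp_singleton.1 hx)⟩ a
      fun x hx => φ.mem_perp_singleton.2 (h.mem_co.1 hx i hi)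
    obtain ⟨c, rfl⟩ := Submodule.mem_span_singleton.1 hx
    simp [h.q.refl_self r]

omit [φ.Nondeg] [FiniteDimensional F V] [Finite F] in
theorem supp_add {A : Finset κ} {a : V} (ha : a ∈ co F e A) {c : F} (hc : c ≠ 0) (y : V) :
    φ.supp e y \ A ⊆ φ.supp e (a + c • y) ∧ φ.supp e (a + c • y) ⊆ A ∪ φ.supp e y := by
  constructor <;> intro k hk <;> by_cases b : k ∈ A <;> have := h.mem_co.1 ha k <;> simp_all [mem_supp]

theorem red {K : Subgroup φ.Isom} (hK : ∀ i, Rf K (e i)) {v : V} (hv : Rf K v) (hT : T ⊆ φ.supp e v) (h2 : 2 ≤ T.card)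
    (h3 : T.card + 3 ≤ (φ.supp e v).card) (hr : ∀ u ∈ co F e T, (∀ k ∈ T, φ.B (e k) u = φ.B (e k) v) → ¬ φ.Rt e u) :
    ∃ x, Rf K x ∧ ¬ φ.Rt e x ∧ (φ.supp e x).card < (φ.supp e v).card := by
  obtain ⟨z, hz, -, -, zK⟩ := h.neg T
  replace zK := zK K fun i _ => (hK i).2
  obtain ⟨u, hu, w, hw, rfl⟩ := h.split T v
  set S := φ.supp e (u + w) with hS
  have s1 : φ.supp e u = T := Finset.ext fun k => by
    have := h.mem_co.1 hu k; have := h.mem_co.1 hw k; have := @hT k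
    by_cases b : k ∈ T <;> simp_all [mem_supp]
  have s2 : φ.supp e w = S \ T := Finset.ext fun k => by
    have := h.mem_co.1 hu k; have := h.mem_co.1 hw k
    by_cases b : k ∈ T <;> simp_all [mem_supp]
  have c2 := Finset.card_sdiff_add_card_eq_card hT
  have key : ∀ {i y} {c : F}, c ≠ 0 → Rf K (e i + c • y) → (4 ≤ (φ.supp e y).card ∨ φ.B (e i) (e i + c • y) ≠ 0 ∧
      3 ≤ (insert i (φ.supp e y)).card) → (φ.supp e y).card + 2 ≤ S.card → ∃ x, Rf K x ∧ ¬ φ.Rt e x ∧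
        (φ.supp e x).card < S.card := fun {i y c} a4 a5 a7 a8 => by
    obtain ⟨t1, t2⟩ := h.supp_add (A := {i}) (e_mem (i := i) (by simp)) a4 y
    have := (Finset.card_le_card t2).trans (Finset.card_union_le _ _)
    refine ⟨_, a5, fun r => ?_, by simp at this; omega⟩
    have := h.root_supp r
    have := Finset.card_le_card t1
    have := Finset.le_card_sdiff {i} (φ.supp e y)
    rcases a7 with a | ⟨a, b⟩
    · simp at *; omega
    have := Finset.card_le_card (show insert i (φ.supp e y) ⊆ φ.supp e (e i + c • y) from fun k hk => by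
      by_cases d : k = i
      exacts [by rw [d]; exact mem_supp.2 a, t1 (by simpa [d] using hk)])
    omega
  obtain ⟨i, hi⟩ := Finset.card_pos.1 (by omega : 0 < T.card)
  obtain ⟨j, hj⟩ := Finset.card_pos.1 (by omega : 0 < (S \ T).card)
  have hw' := h.perp_of hw
  have huv : φ.B u w = 0 := hw' u hu
  have h7 := hv.map h.q zK
  rw [map_add, hz.1 u hu, hz.2 w hw'] at h7
  have h8 := hv.1
  have i1 := h.mem_co.1 hw i (by simpa)
  have j1 := h.mem_co.1 hu j (Finset.mem_sdiff.1 hj).2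
  rw [φ.Q_add_of_orth huv] at h8
  by_cases h4 : φ.Q w = 0
  · have h3 : φ.Q u ≠ 0 := by simpa [h4] using h8
    have := (hK i).map h.q (mul_mem hv.2 h7.2)
    rw [h.q.deg huv h3 h4 (φ.B_symm_zero i1)] at this
    exact key (by simpa [h.h2, h3, h.q.B_comm u] using mem_supp.1 (s1 ▸ hi)) this (.inr ⟨by simp [i1, h.Bee, h.h2, h.N0],
      (by rw [s2]; omega : 3 ≤ (φ.supp e w).card).trans (Finset.card_le_card (Finset.subset_insert _ _))⟩) (by rw [s2]; omega)
  by_cases h5 : φ.Q u = 0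
  · have := (hK j).map h.q (mul_mem hv.2 (h7.smul h.q (c := -1) (by simp)).2)
    rw [add_comm u w, show (-1 : F) • (-u + w) = -w + u by module, h.q.deg (φ.B_symm_zero huv) h4 h5 (φ.B_symm_zero j1)] at this
    exact key (by simpa [h.h2, h4, h.q.B_comm w] using mem_supp.1 (s2 ▸ hj)) this (.inr ⟨by simp [j1, h.Bee, h.h2, h.N0], by
      rw [s1, Finset.card_insert_of_notMem (Finset.mem_sdiff.1 hj).2]; omega⟩) (by rw [s1]; omega)
  rcases h.q.dihedral h.h2 (h.nd T) hz zK hu hw' h5 h4 hv with h9 | ⟨y, hy, h9⟩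
  · exact ⟨u, ⟨h5, h9⟩, hr u hu fun k a => by simp [h.mem_co.1 hw k (by simpa)], by rw [s1]; omega⟩
  have A : ∀ j ∈ φ.supp e w, Rf K (e j + (-(φ.Q w)⁻¹ * φ.B w (e j)) • w) := fun j a => by
    have := (hK j).map h.q hy
    rwa [h9 _ (h.perp_of (e_mem (by simpa using (Finset.mem_sdiff.1 (s2 ▸ a)).2))), h.q.refl_apply] at this
  have c0 : ∀ j ∈ φ.supp e w, -(φ.Q w)⁻¹ * φ.B w (e j) ≠ 0 := fun j a => by simpa [h4, h.q.B_comm w] using mem_supp.1 a
  by_cases b : 4 ≤ (φ.supp e w).card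
  · exact key (c0 j (s2 ▸ hj)) (A j (s2 ▸ hj)) (.inl b) (by rw [s2]; omega)
  have b' : (φ.supp e w).card = 3 := by rw [s2] at b ⊢; omega
  by_contra H
  have := congrArg (φ.B · w) (h.expand w)
  simp only [map_sum, LinearMap.sum_apply, h.q.B_smul_left, h.q.B_self] at this
  rw [← Finset.sum_subset (φ.supp e w).subset_univ fun k _ a => by simp [not_not.1 (mt mem_supp.2 a)],
    Finset.sum_congr rfl (g := fun _ => φ.Q w) fun k a => by
      have := not_not.1 fun d => H (key (c0 k a) (A k a) (.inr ⟨d, b'.ge.trans (Finset.card_le_card (Finset.subset_insert _ _))⟩)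
        (by rw [s2]; omega))
      simp only [map_add, map_smul, h.Bee, h.q.B_comm w, smul_eq_mul] at this
      have := h.h2; have := h.N0
      field_simp at *
      linear_combination -‹_ + _ = _›, Finset.sum_const, b'] at this
  exact h4 (by rw [nsmul_eq_mul, Nat.cast_ofNat] at this; linear_combination -this)

theorem small {K : Subgroup φ.Isom} (hK : ∀ i, Rf K (e i)) : ∀ n {v : V}, Rf K v → ¬ φ.Rt e v → (φ.supp e v).card ≤ n →
    ∃ x, Rf K x ∧ ¬ φ.Rt e x ∧ (φ.supp e x).card ≤ 4 := by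
  have nr : ∀ x, 3 ≤ (φ.supp e x).card → ¬ φ.Rt e x := fun x a b => by have := h.root_supp b; omega
  intro n
  induction n with
  | zero => exact fun a b c => ⟨_, a, b, by omega⟩
  | succ n ih =>
    intro v hv hv' hn
    have R : (∃ x, Rf K x ∧ ¬ φ.Rt e x ∧ (φ.supp e x).card < (φ.supp e v).card) →
      ∃ x, Rf K x ∧ ¬ φ.Rt e x ∧ (φ.supp e x).card ≤ 4 := fun ⟨x, a, b, c⟩ => ih a b (by omega)
    by_cases a : (φ.supp e v).card ≤ 4
    · exact ⟨v, hv, hv', a⟩
    by_cases b : 6 ≤ (φ.supp e v).card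
    · obtain ⟨T, t1, t2⟩ := Finset.exists_subset_card_eq (s := φ.supp e v) (n := 3) (by omega)
      exact R (h.red hK hv t1 (by omega) (by omega) fun u _ c => nr u (t2.ge.trans (Finset.card_le_card fun k d =>
        mem_supp.2 (c k d ▸ mem_supp.1 (t1 d)))))
    have A : ∀ x, Rf K x → (φ.supp e x).card = 5 → ∀ i ∈ φ.supp e x, ∀ j ∈ φ.supp e x, φ.B (e i) x ^ 2 ≠ φ.B (e j) x ^ 2 →
        ∃ y, Rf K y ∧ ¬ φ.Rt e y ∧ (φ.supp e y).card < (φ.supp e v).card := fun x x1 x2 i hi j hj c => by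
      have ij : i ≠ j := by rintro rfl; exact c rfl
      obtain ⟨y, y1, y2, y3⟩ := h.red hK x1 (T := {i, j}) (by simp [Finset.insert_subset_iff, hi, hj])
        (by rw [Finset.card_pair ij]) (by rw [Finset.card_pair ij]; omega) fun u u1 u2 r => by
          have e1 := u2 i (by simp)
          have e2 := u2 j (by simp)
          obtain ⟨s, t, rfl⟩ := Submodule.mem_span_pair.1 (h.mem_pair (i := i) (j := j).2 fun k a b =>
            h.mem_co.1 u1 k (by simp [a, b]))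
          obtain ⟨k, hk⟩ := h.mem_dstab.1 r.2 i
          rw [h.mem_ln] at hk
          have q := r.1
          rw [mem_supp, ← e1] at hi
          rw [mem_supp, ← e2] at hj
          rw [← e1, ← e2] at c
          by_cases d : k = i
          · have := hk j (d ▸ ij.symm)
            rw [h.q.refl_apply, map_add, map_smul, h.q.B_comm (s • e i + t • e j)] at this
            simp [h.orth j i ij.symm, hi, hj, q, -map_add, -map_smul] at this
          have := hk i (Ne.symm d)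
          rw [h.q.refl_apply, map_add, map_smul, h.q.B_comm (s • e i + t • e j), h.q.Q_comb] at this
          rw [h.q.Q_comb] at q
          simp only [map_add, map_smul, h.Bij, h.Qe, ij, ij.symm, if_true, if_false, smul_eq_mul] at this c q
          simp only [mul_zero, add_zero, zero_add] at this c q
          exact c (by linear_combination (-(s * s * N + t * t * N) * 2) * this - (8 * s ^ 2 * N ^ 2) * mul_inv_cancel₀ q)
      exact ⟨y, y1, y2, by omega⟩
    by_contra H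
    obtain ⟨i, hi, j, hj, ij⟩ := Finset.one_lt_card.1 (by omega : 1 < (φ.supp e v).card)
    have E : ∀ k ∈ φ.supp e v, φ.B (e k) v ^ 2 = φ.B (e i) v ^ 2 := fun k d => by_contra fun c => H (R (A v hv (by omega) k d i hi c))
    have q := congrArg (φ.B · v) (h.expand v)
    simp only [map_sum, LinearMap.sum_apply, h.q.B_smul_left, h.q.B_self] at q
    rw [← Finset.sum_subset (φ.supp e v).subset_univ fun k _ a => by simp [not_not.1 (mt mem_supp.2 a)],
      Finset.sum_congr rfl (g := fun _ => φ.B (e i) v ^ 2 / (2 * N)) fun k a => by rw [← E k a]; ring, Finset.sum_const,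
      show (φ.supp e v).card = 5 by omega] at q
    have r := (hK i).map h.q hv.2
    rw [h.q.refl_apply] at r
    have c0 : -(φ.Q v)⁻¹ * φ.B v (e i) ≠ 0 := by simpa [hv.1, h.q.B_comm v] using mem_supp.1 hi
    obtain ⟨t1, t2⟩ := h.supp_add (A := {i}) (e_mem (i := i) (by simp)) c0 v
    rw [← Finset.insert_eq, Finset.insert_eq_of_mem hi] at t2
    have := Finset.card_le_card t1
    have := Finset.le_card_sdiff {i} (φ.supp e v)
    have := Finset.card_le_card t2
    rw [Finset.card_singleton] at *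
    by_cases d : (φ.supp e (e i + (-(φ.Q v)⁻¹ * φ.B v (e i)) • v)).card = 5
    swap
    · exact H ⟨_, r, nr _ (by omega), by omega⟩
    have t3 := Finset.eq_of_subset_of_card_le t2 (by omega)
    refine H (R (A _ r d i (t3 ▸ hi) j (t3 ▸ hj) fun c => ?_))
    simp only [map_add, map_smul, h.Bij, ij.symm, if_true, if_false, smul_eq_mul, h.q.B_comm v, zero_add, mul_pow, E j hj] at c
    have := h.h2; have := h.N0; have := hv.1; have := mem_supp.1 hi
    have q' : φ.B (e i) v ^ 2 * 5 = 2 * 2 * N * φ.Q v := by simp at q; field_simp at q; linear_combination -q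
    field_simp at c
    exact mul_ne_zero (mul_ne_zero (mul_ne_zero h.h2 h.N0) hv.1) (pow_ne_zero 2 this)
      (by linear_combination 2 * N * φ.Q v * q' + 2 * c)

section
variable {L : Subgroup φ.Isom} (hL : φ.E ⊓ φ.dstab (ln F e) ≤ L)
include hL

theorem rr (hx : φ.Rt e x) (hy : φ.Rt e y) (a : chi (φ.Q x) = chi (φ.Q y)) : φ.refl x * φ.refl y ∈ L :=
  hL ⟨h.blk.rr_mem hx.1 hy.1 a, mul_mem hx.2 hy.2⟩

/-- localisation at two coordinates -/
theorem exK {a : V} (ha : Rf L a) (ha' : φ.Rt e a) (hE : ∀ g ∈ L, g ∈ φ.E ∨ g * φ.refl a ∈ φ.E) {m m' : κ}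
    (hm : m ≠ m') : ∃ K : Subgroup φ.Isom, K ⊓ φ.E ≤ L ∧ (∀ g ∈ L, g.1 (e m) = e m → g.1 (e m') = e m' → g ∈ K) ∧
      ∀ x, φ.Rt e x → φ.B (e m) x = 0 → φ.B (e m') x = 0 → Rf K x := by
  have f : ∀ g : φ.Isom, g.1 (e m) = e m → g.1 (e m') = e m' → g ∈ φ.fix (co F e {m, m'}) := fun g a b => by
    rw [co, mem_fix_span]; simp [a, b, or_imp, forall_and]
  refine ⟨loc L _ (h.nd {m, m'}), loc_inf_E _ hL ha.2 ha'.2 hE, fun g a b c =>
    ⟨f g b c, 1, one_mem _, one_mem _, by simpa⟩, fun x a b c => ⟨a.1,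
      f _ (h.q.refl_of_orth (φ.B_symm_zero b)) (h.q.refl_of_orth (φ.B_symm_zero c)), ?_⟩⟩
  rcases h.root_chi a with d | d
  · exact ⟨_, h.q.refl_mem_fix (e_mem (by simp)), (h.rt_e m).2, h.rr hL a (h.rt_e m) (by rw [d, h.Qe])⟩
  · exact ⟨_, h.q.refl_mem_fix (sub_mem (e_mem (by simp)) (e_mem (by simp))), (h.rt_sub hm).2.1.2,
      h.rr hL a (h.rt_sub hm).2.1 (by rw [d, (h.rt_sub hm).1])⟩

/-- final step -/
theorem ff (hT : T.card + 3 ≤ Fintype.card κ) {p : V} (hpT : p ∈ co F e T) {hp : φ.Q p = 0} (p0 : p ≠ 0)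
    (h1 : ∀ w ∈ co F e T, φ.B p w = 0 → w ∈ h.q.ss L hp) (hy : y ∈ h.q.ss L hp) (hy' : y ∉ co F e T) : φ.E ≤ L := by
  have o : ∀ i ∉ T, φ.B (e i) p = 0 := h.mem_co.1 hpT
  have sp : ∀ x, φ.B p x = 0 → ∃ u ∈ co F e T, ∃ w ∈ co F e Tᶜ, x = u + w ∧ u ∈ h.q.ss L hp := fun x hx => by
    obtain ⟨u, hu, w, hw, rfl⟩ := h.split T x
    exact ⟨u, hu, w, hw, rfl, h1 u hu (by simpa [h.perp_of hw p hpT] using hx)⟩
  obtain ⟨u, hu, w, hw, rfl, h2⟩ := sp y (h.q.mem_ss.1 hy).1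
  replace h2 := (add_mem_cancel_left h2).1 hy
  obtain ⟨l, l1, l2⟩ : ∃ l ∉ T, φ.B (e l) w ≠ 0 := by
    by_contra! H; exact hy' (add_mem hu (h.mem_co.2 H))
  have z : ∀ i j, φ.refl (e i) * φ.refl (e j) ∈ L := fun i j => h.rr hL (h.rt_e i) (h.rt_e j) (by rw [h.Qe, h.Qe])
  have h3 : e l ∈ h.q.ss L hp := by
    obtain ⟨m, m1, m2⟩ := ex_not T [l] (by simp; omega)
    obtain ⟨k, k1, k2⟩ := ex_not T [l, m] (by simp; omega)
    simp only [List.mem_cons, List.not_mem_nil, or_false, not_or] at m2 k2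
    have := sub_mem (h.q.ss_map (z l m) (by
      rw [Isom.mul_apply, h.q.refl_of_orth (o m m1), h.q.refl_of_orth (o l l1)]) h2) h2
    refine h.q.ss_refl₂ (h.rt_e l).1 (z l k) (o l l1) (o k k1) this ?_ ?_ <;>
      simp [Isom.mul_apply, h.q.refl_apply, h.Bij, k2, m2, Ne.symm m2, h.Qe, h.N0, l2, h.h2]
  have h4 : co F e Tᶜ ≤ h.q.ss L hp := Submodule.span_le.2 (by
    rintro _ ⟨m, m1, rfl⟩
    replace m1 : m ∉ T := by simpa using m1
    by_cases a : l = m
    · exact a ▸ h3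
    obtain ⟨k, k1, k2⟩ := ex_not T [l, m] (by simp; omega)
    simp only [List.mem_cons, List.not_mem_nil, or_false, not_or] at k2
    have r1 := h.rt_sub a
    have r2 := h.rt_sub (Ne.symm k2.2)
    exact (Submodule.sub_mem_iff_right _ h3).1 (h.q.ss_refl₂ r1.2.1.1 (h.rr hL r1.2.1 r2.2.1 (by rw [r1.1, r2.1]))
      (by simp [o, l1, m1]) (by simp [o, k1, m1]) h3 (by simp [h.Bij, k2, Ne.symm a])
      (by simp [h.Bij, Ne.symm a, h.h2, h.N0])))
  obtain ⟨i, hi⟩ : ∃ i, φ.B (e i) p ≠ 0 := by by_contra! H; exact p0 (h.tot p H)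
  refine h.q.ss_E_le (hp := hp) (fun x hx => ?_) (z i l) ?_
  · obtain ⟨u, -, w, hw, rfl, a⟩ := sp x hx
    exact add_mem a (h4 hw)
  · simp [Isom.mul_apply, h.q.refl_of_orth (o l l1), h.q.refl_apply, φ.B_self_eq_zero hp, h.Qe, h.N0, hi,
      h.q.B_comm p]

end
end Fr5
end Form
end H10
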