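import Mathlib
import Cfsg.Agent.H10.FrG

/-! # Orthogonal frames in dimension five: reduction to support three -/

namespace H10

open Module

namespace Form
variable {F V : Type*} [Field F] [AddCommGroup V] [Module F V] {φ : Form F V} {κ : Type*} [Fintype κ] [DecidableEq κ]

open Fr (e_mem)

namespace Fr5
variable {e : κ → V} {N : F} (h : φ.Fr5 e N) {x y : V} {i j : κ}
include h

theorem Qs (T : Finset κ) (hx : ∀ n ∉ T, φ.B (e n) x = 0) : 2 * 2 * N * φ.Q x = ∑ n ∈ T, φ.B (e n) x ^ 2 := by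
  have q := congrArg (φ.B · x) (h.expand x)
  simp only [map_sum, LinearMap.sum_apply, h.q.B_smul_left, h.q.B_self] at q
  rw [← Finset.sum_subset T.subset_univ fun k _ a => by simp [hx k a]] at q
  have := h.h2; have := h.N0
  rw [show 2 * 2 * N * φ.Q x = 2 * N * (2 * φ.Q x) by ring, q, Finset.mul_sum]
  exact Finset.sum_congr rfl fun k _ => by field_simp

variable [φ.Nondeg] [FiniteDimensional F V] [Finite F]

theorem cr (w : V) (n k : κ) : φ.B (e n) ((φ.refl w).1 (e k)) =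
    φ.B (e n) (e k) - (φ.Q w)⁻¹ * φ.B (e k) w * φ.B (e n) w := by
  rw [h.q.refl_apply, map_add, map_smul, h.q.B_comm w, smul_eq_mul]; ring

theorem rt_sq (hx : φ.Rt e x) (ij : i ≠ j) (hi : φ.B (e i) x ≠ 0) (hj : φ.B (e j) x ≠ 0) :
    φ.B (e i) x ^ 2 = 2 * N * φ.Q x := by
  obtain ⟨k, hk⟩ := h.mem_dstab.1 hx.2 i
  rw [h.mem_ln] at hk
  have q := hx.1
  have kj : k = j := by_contra fun a => by
    have := hk j (Ne.symm a)
    rw [h.cr, h.orth j i ij.symm] at this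
    simp [hi, hj, q] at this
  have := hk i (kj ▸ ij)
  rw [h.cr, h.Bee] at this
  field_simp at this
  linear_combination -this

variable {L : Subgroup φ.Isom} (hK : ∀ i, Rf L (e i)) (H : ∀ x, Rf L x → (φ.supp e x).card ≤ 3 → φ.Rt e x)
include H

omit h in
theorem rt3 (hx : Rf L x) (a b c : κ) (h1 : ∀ n, n ≠ a → n ≠ b → n ≠ c → φ.B (e n) x = 0) : φ.Rt e x :=
  H x hx ((Finset.card_le_card fun n hn => by
    by_contra d; simp only [Finset.mem_insert, Finset.mem_singleton, not_or] at d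
    exact mem_supp.1 hn (h1 n d.1 d.2.1 d.2.2)).trans (Finset.card_le_three (a := a) (b := b) (c := c)))

theorem nr3 (hx : Rf L x) {a b c : κ} (ab : a ≠ b) (ac : a ≠ c) (bc : b ≠ c)
    (h1 : ∀ n, n ≠ a → n ≠ b → n ≠ c → φ.B (e n) x = 0) (ha : φ.B (e a) x ≠ 0) (hb : φ.B (e b) x ≠ 0)
    (hc : φ.B (e c) x ≠ 0) : False :=
  absurd (Finset.two_lt_card_iff.2 ⟨a, b, c, mem_supp.2 ha, mem_supp.2 hb, mem_supp.2 hc, ab, ac, bc⟩)
    (not_lt.2 (h.root_supp (rt3 H hx a b c h1)))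

include hK

theorem pr {v : V} (hv : Rf L v) (ij : i ≠ j) (hi : φ.B (e i) v ≠ 0) (hj : φ.B (e j) v ≠ 0) {k : κ} (ik : i ≠ k)
    (jk : j ≠ k) (hk : φ.B (e k) v ≠ 0) : φ.B (e i) v ^ 2 + φ.B (e j) v ^ 2 ≠ 0 ∧ ∃ w, φ.B (e i) w = 0 ∧ φ.B (e j) w = 0 ∧
      (∀ n, n ≠ i → n ≠ j → φ.B (e n) w = φ.B (e n) v) ∧ (φ.Q w ≠ 0 → φ.B (e i) v ^ 2 = φ.B (e j) v ^ 2 ∨
        ∃ y ∈ L, ∀ x, φ.B (e i) x = 0 → φ.B (e j) x = 0 → y.1 x = (φ.refl w).1 x) := by
  obtain ⟨z, hz, -, -, zK⟩ := h.neg {i, j}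
  replace zK := zK L fun i _ => (hK i).2
  obtain ⟨u, hu, w, hw, rfl⟩ := h.split {i, j} v
  have u1 : ∀ n, n ≠ i → n ≠ j → φ.B (e n) u = 0 := fun n a b => h.mem_co.1 hu n (by simp [a, b])
  have w1 := h.mem_co.1 hw i (by simp)
  have w2 := h.mem_co.1 hw j (by simp)
  have hw' := h.perp_of hw
  have huv : φ.B u w = 0 := hw' u hu
  have h7 := hv.map h.q zK
  rw [map_add, hz.1 u hu, hz.2 w hw'] at h7
  have h8 := hv.1
  rw [φ.Q_add_of_orth huv] at h8
  have k1 := u1 k ik.symm jk.symm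
  simp only [map_add, w1, w2, k1, add_zero, zero_add] at hi hj hk ⊢
  have q := h.Qs {i, j} (x := u) fun n a => h.mem_co.1 hu n a
  rw [Finset.sum_pair ij] at q
  have h5 : φ.Q u ≠ 0 := fun h5 => by
    have h4 : φ.Q w ≠ 0 := by simpa [h5] using h8
    have := (hK k).map h.q (mul_mem hv.2 (h7.smul h.q (c := -1) (by simp)).2)
    rw [add_comm u w, show (-1 : F) • (-u + w) = -w + u by module,
      h.q.deg (φ.B_symm_zero huv) h4 h5 (φ.B_symm_zero k1)] at this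
    refine h.nr3 H this ij ik jk (fun n a b c => by simp [h.orth n k c, u1 n a b]) ?_ ?_ ?_ <;>
      simp [h.Bij, ik, jk, hi, hj, hk, h4, k1, h.h2, h.N0, h.q.B_comm w]
  refine ⟨q ▸ mul_ne_zero (mul_ne_zero (mul_ne_zero h.h2 h.h2) h.N0) h5, w, w1, w2, fun n a b => by simp [u1 n a b],
    fun h4 => (h.q.dihedral h.h2 (h.nd _) hz zK hu hw' h5 h4 hv).imp (fun h9 => ?_) fun ⟨y, hy, h9⟩ =>
      ⟨y, hy, fun x a b => h9 x (h.perp_of (h.mem_co.2 fun n c => ?_))⟩⟩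
  · have r := rt3 H ⟨h5, h9⟩ i j j fun n a b _ => u1 n a b
    rw [h.rt_sq r ij hi hj, h.rt_sq r ij.symm hj hi]
  · simp only [Finset.mem_compl, not_not, Finset.mem_insert, Finset.mem_singleton] at c
    rcases c with rfl | rfl <;> assumption

variable (hL : φ.E ⊓ φ.dstab (ln F e) ≤ L)
include hL

theorem four {v : V} (hv : Rf L v) {i j k l f : κ}
    (hd : i ≠ j ∧ i ≠ k ∧ i ≠ l ∧ i ≠ f ∧ j ≠ k ∧ j ≠ l ∧ j ≠ f ∧ k ≠ l ∧ k ≠ f ∧ l ≠ f)
    (hs : ∀ n, n ≠ i → n ≠ j → n ≠ k → n ≠ l → φ.B (e n) v = 0) (hi : φ.B (e i) v ≠ 0) (hj : φ.B (e j) v ≠ 0)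
    (hk : φ.B (e k) v ≠ 0) (hl : φ.B (e l) v ≠ 0) :
    φ.B (e i) v ^ 2 = φ.B (e j) v ^ 2 ∨ φ.B (e k) v ^ 2 = φ.B (e l) v ^ 2 := by
  obtain ⟨ij, ik, il, if', jk, jl, jf, kl, kf, lf⟩ := hd
  obtain ⟨-, w, w1, w2, w3, w4⟩ := h.pr hK H hv ij hi hj ik jk hk
  have w5 : ∀ n, n ≠ k → n ≠ l → φ.B (e n) w = 0 := fun n a b => by
    by_cases c : n = i
    · rw [c, w1]
    by_cases d : n = j
    · rw [d, w2]
    rw [w3 n c d, hs n c d a b]
  have q := h.Qs {k, l} (x := w) fun n a => w5 n (by rintro rfl; simp at a) (by rintro rfl; simp at a)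
  rw [← w3 k ik.symm jk.symm] at hk ⊢
  rw [← w3 l il.symm jl.symm] at hl ⊢
  have w0 : φ.Q w ≠ 0 := fun a => (h.pr hK H hv kl (w3 k ik.symm jk.symm ▸ hk) (w3 l il.symm jl.symm ▸ hl)
    ik.symm il.symm hi).1 (by
      rw [← w3 k ik.symm jk.symm, ← w3 l il.symm jl.symm, ← Finset.sum_pair (f := fun n => φ.B (e n) w ^ 2) kl, ← q, a,
        mul_zero])
  refine (w4 w0).imp_right fun ⟨y, hy, h9⟩ => ?_
  have key : ∀ k l, i ≠ k → j ≠ k → k ≠ l → k ≠ f → l ≠ f → (∀ n, n ≠ k → n ≠ l → φ.B (e n) w = 0) → φ.B (e k) w ≠ 0 →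
      φ.B (e l) w ≠ 0 → φ.B (e k) w ^ 2 = 2 * N * φ.Q w := fun k l ik jk kl kf lf w5 hk hl => by
    by_contra c
    have r := (hK k).map h.q hy
    rw [h9 _ (h.orth _ _ ik) (h.orth _ _ jk)] at r
    have a1 : φ.B (e k) ((φ.refl w).1 (e k)) ≠ 0 := fun a => c (by
      rw [h.cr, h.Bee] at a; field_simp at a; linear_combination -a)
    have a2 : φ.B (e l) ((φ.refl w).1 (e k)) ≠ 0 := by simp [h.cr, h.orth l k kl.symm, hk, hl, w0]
    have a3 : ∀ n, n ≠ k → n ≠ l → φ.B (e n) ((φ.refl w).1 (e k)) = 0 := fun n a b => by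
      simp [h.cr, h.orth n k a, w5 n a b]
    rcases h.root_cls (rt3 H r k l l fun n a b _ => a3 n a b) a1 with d | ⟨-, -, -, d⟩
    · exact a2 (h.mem_ln.1 d.1 l kl.symm)
    rw [Isom.Q_map] at d
    have r1 := h.rt_sub kf
    have r2 := (h.blk.rf hL (hK k) (h.rt_e k).2 r1.2.1.2 r1.2.1.1 (by rw [d, r1.1])).map h.q hy
    rw [h9 _ (by simp [h.Bij, ik, if']) (by simp [h.Bij, jk, jf]), map_sub,
      h.q.refl_of_orth (φ.B_symm_zero (w5 f kf.symm lf.symm))] at r2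
    refine h.nr3 H r2 kl kf lf (fun n a b c => by simp [a3 n a b, h.orth n f c]) ?_ ?_ ?_ <;>
      simp [h.Bij, kf, lf, a1, a2, a3 f kf.symm lf.symm, h.h2, h.N0]
  rw [key k l ik jk kl kf lf w5 hk hl, key l k il jl kl.symm lf kf (fun n a b => w5 n b a) hl hk]

theorem eq4 {v : V} (hv : Rf L v) {i j k l f : κ}
    (hd : i ≠ j ∧ i ≠ k ∧ i ≠ l ∧ i ≠ f ∧ j ≠ k ∧ j ≠ l ∧ j ≠ f ∧ k ≠ l ∧ k ≠ f ∧ l ≠ f)
    (hs : ∀ n, n ≠ i → n ≠ j → n ≠ k → n ≠ l → φ.B (e n) v = 0) (hi : φ.B (e i) v ≠ 0) (hj : φ.B (e j) v ≠ 0)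
    (hk : φ.B (e k) v ≠ 0) (hl : φ.B (e l) v ≠ 0) : φ.B (e i) v ^ 2 = φ.B (e j) v ^ 2 := by
  by_contra c
  have e1 := (h.four hK H hL hv hd hs hi hj hk hl).resolve_left c
  obtain ⟨ij, ik, il, if', jk, jl, jf, kl, kf, lf⟩ := hd
  have v0 := hv.1
  have key : ∀ i j, i ≠ j → i ≠ k → i ≠ l → i ≠ f → j ≠ k → j ≠ l → j ≠ f →
      (∀ n, n ≠ i → n ≠ j → n ≠ k → n ≠ l → φ.B (e n) v = 0) → φ.B (e i) v ≠ 0 → φ.B (e j) v ≠ 0 →
      φ.B (e i) v ^ 2 ≠ φ.B (e j) v ^ 2 → φ.B (e i) v ^ 2 ≠ φ.B (e k) v ^ 2 :=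
    fun i j ij ik il if' jk jl jf hs hi hj c d => by
      have r := (hK i).map h.q hv.2
      have a1 : ∀ n, n ≠ i → φ.B (e n) ((φ.refl v).1 (e i)) = -((φ.Q v)⁻¹ * φ.B (e i) v * φ.B (e n) v) := fun n a => by
        rw [h.cr, h.orth n i a, zero_sub]
      have a2 : ∀ n, n ≠ i → φ.B (e n) v ≠ 0 → φ.B (e n) ((φ.refl v).1 (e i)) ≠ 0 := fun n a b => by
        simp [a1 n a, b, hi, v0]
      have q := h.Qs {i, j, k, l} (x := v) fun n a => by
        simp only [Finset.mem_insert, Finset.mem_singleton, not_or] at a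
        exact hs n a.1 a.2.1 a.2.2.1 a.2.2.2
      rw [Finset.sum_insert (by simp [ij, ik, il]), Finset.sum_insert (by simp [jk, jl]), Finset.sum_pair kl] at q
      by_cases a3 : φ.B (e i) ((φ.refl v).1 (e i)) = 0
      · refine h.nr3 H r jk jl kl (fun n a b c => ?_) (a2 j ij.symm hj) (a2 k ik.symm hk) (a2 l il.symm hl)
        by_cases d : n = i
        · rw [d, a3]
        · rw [a1 n d, hs n d a b c, mul_zero, neg_zero]
      rcases h.four hK H hL r (f := f) ⟨jk, ij.symm, jl, jf, ik.symm, kl, kf, il, if', lf⟩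
        (fun n a b c d => by rw [a1 n c, hs n c a b d, mul_zero, neg_zero]) (a2 j ij.symm hj) (a2 k ik.symm hk) a3
        (a2 l il.symm hl) with a4 | a4
      · rw [a1 j ij.symm, a1 k ik.symm] at a4
        field_simp at a4
        exact c (by rw [d, a4])
      · rw [a1 l il.symm, h.cr, h.Bee] at a4
        have := h.h2; have := h.N0
        field_simp at a4
        refine c (mul_left_cancel₀ (mul_ne_zero h.N0 v0) ?_)
        linear_combination (φ.Q v * N) * q - a4 + (φ.B (e i) v ^ 2 - φ.Q v * N) * e1 +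
          (φ.B (e i) v ^ 2 - 2 * φ.Q v * N) * d
  rcases h.four hK H hL hv (f := f) ⟨ik, ij, il, if', jk.symm, kl, kf, jl, jf, lf⟩ (fun n a b c d => hs n a c b d)
    hi hk hj hl with a | a
  · exact key i j ij ik il if' jk jl jf hs hi hj c a
  · exact key j i ij.symm jk jl jf ik il if' (fun n a b => hs n b a) hj hi (Ne.symm c) (a.trans e1.symm)

theorem no4 (h3 : (3 : F) ≠ 0) {v : V} (hv : Rf L v) {i j k l f : κ}
    (hd : i ≠ j ∧ i ≠ k ∧ i ≠ l ∧ i ≠ f ∧ j ≠ k ∧ j ≠ l ∧ j ≠ f ∧ k ≠ l ∧ k ≠ f ∧ l ≠ f)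
    (hs : ∀ n, n ≠ i → n ≠ j → n ≠ k → n ≠ l → φ.B (e n) v = 0) (hi : φ.B (e i) v ≠ 0) (hj : φ.B (e j) v ≠ 0)
    (hk : φ.B (e k) v ≠ 0) (hl : φ.B (e l) v ≠ 0) : False := by
  have e1 := h.eq4 hK H hL hv hd hs hi hj hk hl
  obtain ⟨ij, ik, il, if', jk, jl, jf, kl, kf, lf⟩ := hd
  have e2 := h.eq4 hK H hL hv (f := f) ⟨ik, ij, il, if', jk.symm, kl, kf, jl, jf, lf⟩ (fun n a b c d => hs n a c b d)
    hi hk hj hl
  have e3 := h.eq4 hK H hL hv (f := f) ⟨il, ij, ik, if', jl.symm, kl.symm, lf, jk, jf, kf⟩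
    (fun n a b c d => hs n a c d b) hi hl hj hk
  have v0 := hv.1
  have h2 := h.h2
  have N0 := h.N0
  have hf := hs f if'.symm jf.symm kf.symm lf.symm
  have q := h.Qs {i, j, k, l} (x := v) fun n a => by
    simp only [Finset.mem_insert, Finset.mem_singleton, not_or] at a
    exact hs n a.1 a.2.1 a.2.2.1 a.2.2.2
  rw [Finset.sum_insert (by simp [ij, ik, il]), Finset.sum_insert (by simp [jk, jl]), Finset.sum_pair kl] at q
  replace q : φ.B (e l) v ^ 2 = N * φ.Q v := mul_left_cancel₀ (mul_ne_zero h2 h2) (by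
    linear_combination -q + e1 + e2 - 3 * e3)
  have m : ∀ (c : F) i, c • e i ∈ ln F e i := fun c i => Submodule.smul_mem _ c (Submodule.mem_span_singleton_self _)
  have r1 := h.root ij (m (φ.B (e i) v) i) (m (-φ.B (e j) v) j) (by simp [h.q.Q_smul, hi, h.Qe, N0])
    (by simp only [h.q.Q_smul, h.Qe]; linear_combination (-N) * e1)
  have r2 := h.rt_sub lf
  have r3 := (hv.map h.q (h.rr hL r2.2.1 r1.2.1 (by
    rw [r1.1, r2.1, h.q.Q_smul, h.Qe, mul_left_comm, chi_mul (mul_ne_zero hi hi) (mul_ne_zero h2 N0), chi_mul_self,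
      one_mul]))).map h.q hv.2
  rw [Isom.mul_apply, h.q.refl_of_orth (x := v) (by
    simp only [map_add, LinearMap.add_apply, h.q.B_smul_left]; linear_combination e1)] at r3
  have r4 : Rf L (v + (φ.B (e l) v / N) • (e l - e f)) := by
    convert r3.smul h.q (c := -2) (by simpa) using 1
    simp only [h.q.refl_apply, r2.1, map_add, map_smul, map_sub, LinearMap.sub_apply, hf, h.q.B_self,
      h.q.B_comm v (e _), smul_eq_mul]
    match_scalars <;> field_simp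
    all_goals first | ring1 | linear_combination q | linear_combination -q
  set t := v + (φ.B (e l) v / N) • (e l - e f) with ht
  have t1 : ∀ n, n ≠ l → n ≠ f → φ.B (e n) t = φ.B (e n) v := fun n a b => by simp [ht, h.Bij, a, b]
  have t2 : φ.B (e l) t = 3 * φ.B (e l) v := by simp [ht, h.Bij, lf]; field_simp; ring
  have t3 : φ.B (e f) t = -2 * φ.B (e l) v := by simp [ht, h.Bij, lf.symm, hf]; field_simp
  obtain ⟨-, w, w1, w2, w3, w4⟩ := h.pr hK H r4 kl (by rwa [t1 k kl kf]) (by rw [t2]; exact mul_ne_zero h3 hl)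
    ik.symm il.symm (by rwa [t1 i il if'])
  have w5 : ∀ n, n ≠ i → n ≠ j → n ≠ f → φ.B (e n) w = 0 := fun n a b c => by
    by_cases d : n = k
    · rw [d, w1]
    by_cases g : n = l
    · rw [g, w2]
    rw [w3 n d g, t1 n g c, hs n a b d g]
  have wi := (w3 i ik il).trans (t1 i il if')
  have wj := (w3 j jk jl).trans (t1 j jl jf)
  have wf := (w3 f kf.symm lf.symm).trans t3
  have q' := h.Qs {i, j, f} (x := w) fun n a => by
    simp only [Finset.mem_insert, Finset.mem_singleton, not_or] at a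
    exact w5 n a.1 a.2.1 a.2.2
  rw [Finset.sum_insert (by simp [ij, if']), Finset.sum_pair jf, wi, wj, wf] at q'
  replace q' : 2 * N * φ.Q w = 3 * φ.B (e i) v ^ 2 := mul_left_cancel₀ h2 (by
    linear_combination q' - e1 - 4 * e3)
  have w0 : φ.Q w ≠ 0 := fun a => mul_ne_zero h3 (pow_ne_zero 2 hi) (by rw [← q', a, mul_zero])
  rcases w4 w0 with a | ⟨y, hy, h9⟩
  · rw [t1 k kl kf, t2] at a
    exact mul_ne_zero (mul_ne_zero (mul_ne_zero h2 h2) h2) (pow_ne_zero 2 hi) (by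
      linear_combination -a - e2 + 9 * e3)
  have r := (hK i).map h.q hy
  rw [h9 _ (h.orth _ _ ik.symm) (h.orth _ _ il.symm)] at r
  refine h.nr3 H r ij if' jf (fun n a b c => by simp [h.cr, h.orth n i a, w5 n a b c]) (fun a => ?_) ?_ ?_
  · rw [h.cr, h.Bee, wi] at a
    field_simp at a
    exact mul_ne_zero h2 (pow_ne_zero 2 hi) (by linear_combination a - q')
  · simp [h.cr, h.orth j i ij.symm, wi, wj, hi, hj, w0]
  · simp [h.cr, h.orth f i if'.symm, wi, wf, hi, hl, w0, h2]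

end Fr5
end Form
end H10
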