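import Mathlib
import Cfsg.Agent.H10.FrH

/-! # Orthogonal frames in dimension five: `isMaximalIn_frame5` -/

namespace H10

open Module

namespace Form
variable {F V : Type*} [Field F] [AddCommGroup V] [Module F V] {φ : Form F V} {κ : Type*} [Fintype κ] [DecidableEq κ]

variable [φ.Nondeg] [FiniteDimensional F V] [Finite F]
namespace Fr5
open Fr (e_mem)
section
variable {e : κ → V} {N : F} (h : φ.Fr5 e N) {L : Subgroup φ.Isom} (hF : ∀ c : F, ∃ n : ℕ, c = n) (hL : φ.E ⊓ φ.dstab (ln F e) ≤ L)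
include h hF hL

omit hF in
theorem ff0 {T : Finset κ} {p : V} (hpT : p ∈ co F e T) {hp : φ.Q p = 0} (p0 : p ≠ 0)
    (h1 : ∀ w ∈ co F e T, φ.B p w = 0 → w ∈ h.q.ss L hp) (h3 : ∀ l ∉ T, e l ∈ h.q.ss L hp) {l : κ} (l1 : l ∉ T) :
    φ.E ≤ L := by
  have o : ∀ i ∉ T, φ.B (e i) p = 0 := h.mem_co.1 hpT
  have h4 : co F e Tᶜ ≤ h.q.ss L hp := Submodule.span_le.2 (by
    rintro _ ⟨m, m1, rfl⟩
    exact h3 m (by simpa using m1))
  obtain ⟨i, hi⟩ : ∃ i, φ.B (e i) p ≠ 0 := by by_contra! H; exact p0 (h.tot p H)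
  refine h.q.ss_E_le (hp := hp) (fun x hx => ?_) (h.rr hL (h.rt_e i) (h.rt_e l) (by rw [h.Qe, h.Qe])) ?_
  · obtain ⟨u, hu, w, hw, rfl⟩ := h.split T x
    exact add_mem (h1 u hu (by simpa [h.perp_of hw p hpT] using hx)) (h4 hw)
  · simp [h.q.refl_of_orth (o l l1), h.q.refl_apply, φ.B_self_eq_zero hp, h.Qe, h.N0, hi, h.q.B_comm p]

theorem gf3 (hK : ∀ i, Rf L (e i)) (h3 : (3 : F) = 0) {v : V} (hv : Rf L v) (hv' : ¬ φ.Rt e v) {j : κ} (hj : φ.B (e j) v = 0) : φ.E ≤ L := by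
  have s : ∀ c : F, c ≠ 0 → c * c = 1 := fun c hc => by
    obtain ⟨n, rfl⟩ := hF c
    rw [← Nat.div_add_mod n 3] at hc ⊢
    have : n % 3 = 0 ∨ n % 3 = 1 ∨ n % 3 = 2 := by omega
    rcases this with a | a | a <;> simp only [a, Nat.cast_add, Nat.cast_mul, Nat.cast_ofNat, h3] at hc ⊢
    · simp at hc
    · simp
    · linear_combination h3
  obtain ⟨i, k, l, hi, hk, hl, ik, il, kl⟩ := Finset.two_lt_card_iff.1
    (h.three_of hv.1 hv' fun i j _ a b => by rw [s _ a, s _ b])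
  rw [mem_supp] at hi hk hl
  have n : ∀ i, φ.B (e i) v ≠ 0 → i ≠ j := by rintro i a rfl; exact a hj
  have ij := n i hi
  have kj := n k hk
  have s1 := s _ hi
  have s2 := s _ hk
  set x := φ.B (e i) v with hx
  set y := φ.B (e k) v with hy
  have m : ∀ (c : F) i, c • e i ∈ ln F e i := fun c i => Submodule.smul_mem _ c (Submodule.mem_span_singleton_self _)
  have r1 := h.root ik (m x i) (m y k) (by simp [h.q.Q_smul, s1, h.Qe, h.N0]) (by simp [h.q.Q_smul, s1, s2, h.Qe])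
  have r2 := h.root ij (m (-x) i) (m 1 j) (by simp [h.q.Q_smul, s1, h.Qe, h.N0]) (by simp [h.q.Q_smul, s1, h.Qe])
  have hp : φ.Q (x • e i - y • e k + e j) = 0 := by
    simp only [sub_eq_add_neg, h.q.Q_add, Q_neg, h.q.Q_smul, s1, s2, h.Qe]
    simp [h.Bij, ik, ij, kj]; linear_combination N * h3
  have h1 : x • e i + y • e k ∈ h.q.ss L hp := h.q.ss_of_rr hF (by simp [h.Bij, ik, ik.symm, ij.symm, kj.symm, h.q.σ_eq, ← mul_assoc, mul_right_comm, s1, s2])
    r1.2.1.1 (by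
      convert h.rr hL r1.2.1 r2.2.1 (by rw [r1.1, r2.1]; simp [h.q.Q_smul, s1, h.Qe]) using 3
      linear_combination (norm := module) (x * h3) • e i)
  have lj := n l hl
  have h2 : e l ∈ h.q.ss L hp := h.q.ss_refl (hK l) (by simp [h.Bij, il.symm, kl.symm, lj]) (h.q.ss_refl hv
    (by simp [h.q.B_comm v (e _), ← hx, ← hy, s1, s2, hj]) h1 (by
      simp only [map_add, map_smul, h.q.B_comm v (e _), ← hx, ← hy, smul_eq_mul, s1, s2, one_add_one_eq_two]
      exact h.h2)) hl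
  refine h.ff0 hL (T := {i, k, j}) (hp := hp) (h.mem_co.2 fun a b => by simp_all [h.Bij]) (fun a => ?_)
    (fun w a b => ?_) (fun t a => ?_) (l := l) (by simp [il.symm, kl.symm, lj])
  · simpa [h.Bij, ij.symm, kj.symm, h.h2, h.N0] using congrArg (φ.B (e j)) a
  · simp only [co, Finset.coe_insert, Finset.coe_singleton, Set.image_insert_eq, Set.image_singleton,
      Submodule.mem_span_triple] at a
    obtain ⟨a, c, d, rfl⟩ := a
    have : a * x - c * y + d = 0 := mul_left_cancel₀ (mul_ne_zero h.h2 h.N0) (by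
      simp [h.Bij, ik, ik.symm, ij, ij.symm, kj, kj.symm, h.q.σ_eq] at b; linear_combination b)
    convert add_mem (Submodule.smul_mem _ d h.q.self_mem_ss) (Submodule.smul_mem _ (a * x - d) h1) using 1
    match_scalars
    · linear_combination (-a) * s1
    · linear_combination (-y) * this - c * s2 + d * y * h3
    · ring
  · by_cases b : l = t
    · exact b ▸ h2
    simp only [Finset.mem_insert, Finset.mem_singleton, not_or] at a
    have r3 := h.rt_sub b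
    exact (Submodule.sub_mem_iff_right _ h2).1 (h.q.ss_refl₂ r3.2.1.1 (h.rr hL r3.2.1 r1.2.1 (by
      rw [r1.1, r3.1]; simp [h.q.Q_smul, s1, h.Qe])) (by simp [h.Bij, il.symm, kl.symm, lj, a])
      (by simp [h.Bij, ik, ik.symm, ij, kj, h.q.σ_eq, ← mul_assoc, mul_right_comm, s1, s2]) h2
      (by simp [h.Bij, il, kl]) (by simp [h.Bij, Ne.symm b, h.h2, h.N0]))

omit hF hL in
theorem good3 {y : V} (y0 : φ.Q y ≠ 0) (hy : ¬ φ.Rt e y) (h3 : (φ.supp e y).card ≤ 3) :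
    ∃ k, φ.B (e k) y ≠ 0 ∧ φ.B (e k) y ^ 2 ≠ 2 * N * φ.Q y := by
  by_contra! H
  have a := h.three_of y0 hy fun i j _ a b => by rw [← sq, ← sq, H i a, H j b]
  have q := h.Qs (φ.supp e y) (x := y) fun n a => by simpa [mem_supp] using a
  rw [Finset.sum_congr rfl fun k a => H k (mem_supp.1 a), Finset.sum_const, h3.antisymm a, nsmul_eq_mul,
    Nat.cast_ofNat] at q
  exact mul_ne_zero (mul_ne_zero h.h2 h.N0) y0 (by linear_combination -q)

variable {i j : κ} (ij : i ≠ j) {w : V} (w0 : φ.Q w ≠ 0) (w1 : φ.B (e i) w = 0) (w2 : φ.B (e j) w = 0)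
  (hU : Om L (Submodule.span F {e i, e j} ⊔ F ∙ w))
include ij w0 w1 w2 hU

theorem fin5 (h5 : (5 : F) = 0) : φ.E ≤ L := by
  have hp : φ.Q (e i + (2 : F) • e j) = 0 := by
    simp [h.q.Q_add, h.q.Q_smul, h.Qe, h.orth i j ij]; linear_combination N * h5
  have a := Submodule.mem_sup_right (S := Submodule.span F {e i, e j}) (Submodule.mem_span_singleton_self (R := F) w)
  refine h.ff hL (T := {i, j}) (by have := h.n10; have := Finset.card_le_two (a := i) (b := j); omega) (hp := hp)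
    (y := w) (h.mem_co.2 fun a b => by simp_all [h.Bij]) (fun a => ?_) (fun x a b => ?_)
    (h.q.ss_of_om h.h2 hF hU (Submodule.mem_sup_left (Submodule.mem_span_pair.2 ⟨1, 2, by simp⟩)) a
      (by simp [w1, w2]) w0 w a (by simp [w1, w2])) fun a => w0 (by
        rw [h.tot w fun k => by by_cases b : k ∈ ({i, j} : Finset κ) <;> [simp at b; exact h.mem_co.1 a k b]; aesop,
          Q_zero])
  · simpa [h.Bij, ij, h.h2, h.N0] using congrArg (φ.B (e i)) a
  · exact h.q.ss_of_om h.h2 hF hU (Submodule.mem_sup_left (Submodule.mem_span_pair.2 ⟨1, 2, by simp⟩))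
      (Submodule.mem_sup_right (Submodule.mem_span_singleton_self _)) (by simp [w1, w2]) w0 x
      (Submodule.mem_sup_left (by simpa [co, Set.image_insert_eq] using a)) b

omit ij w0 w1 w2 hU hL in
theorem om (p : ℕ) [Fact p.Prime] [CharP F p] {K : Subgroup φ.Isom} (hK : K ⊓ φ.E ≤ L) {i j : κ} (ij : i ≠ j)
    (hi : Rf K (e i)) (hj : Rf K (e i - e j)) {u w : V} (hu : u ∈ Submodule.span F {e i, e j}) (u0 : u ≠ 0)
    (w0 : φ.Q w ≠ 0) (w1 : φ.B (e i) w = 0) (w2 : φ.B (e j) w = 0) (hx : Rf K (u + w))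
    (h1 : 2 * φ.Q u ≠ φ.Q (u + w)) : Om L (Submodule.span F {e i, e j} ⊔ F ∙ w) := fun x a y b c d f g =>
  have y0 : φ.Q y ≠ 0 := fun e => c (by rw [g, e, mul_zero])
  hK ⟨h.q.dick p h.h2 hF hi hj (by rw [h.Qe, h.Qe]) (h.orth i j ij) w1 w2 hu u0 w0 hx h1 a b c f g,
    h.blk.rr_mem c y0 (by rw [g, chi_mul (mul_ne_zero f f) y0, chi_mul_self, one_mul])⟩

omit ij w0 w1 w2 hU in
theorem fin7 (h3 : (3 : F) ≠ 0) (h5 : (5 : F) ≠ 0) {i j m : κ} (ij : i ≠ j) (im : i ≠ m) (jm : j ≠ m)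
    {U : Submodule F V} (hT : Om L U) (cT : co F e {i, j, m} ≤ U) : φ.E ≤ L := by
  have N0 := h.N0
  have h2 := h.h2
  have h4 : (4 : F) ≠ 0 := by rw [show (4 : F) = 2 * 2 by norm_num]; exact mul_ne_zero h2 h2
  obtain ⟨u, u1, u2⟩ := h.q.exists_Q_eq (h.nd {i, j}) (by rw [h.finrank_co, Finset.card_pair ij]) (-N)
  simp only [co, Finset.coe_insert, Finset.coe_singleton, Set.image_insert_eq, Set.image_singleton,
    Submodule.mem_span_pair] at u1
  obtain ⟨s, t, rfl⟩ := u1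
  rw [h.q.Q_comb, h.Qe, h.Qe, h.orth i j ij] at u2
  have hp : φ.Q (s • e i + t • e j + e m) = 0 := by
    rw [h.q.Q_add, h.q.Q_comb]; simp [h.Qe, h.Bij, ij, im, jm]; linear_combination u2
  have q3 : φ.Q (t • e i + (-s) • e j) = -N := by rw [h.q.Q_comb, h.Qe, h.Qe, h.orth i j ij]; linear_combination u2
  have pT : s • e i + t • e j + e m ∈ co F e {i, j, m} := h.mem_co.2 fun a b => by simp_all [h.Bij]
  have uT : t • e i + (-s) • e j ∈ co F e {i, j, m} := h.mem_co.2 fun a b => by simp_all [h.Bij]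
  have b1 : φ.B (s • e i + t • e j + e m) (t • e i + (-s) • e j) = 0 := by
    simp [h.Bij, ij, ij.symm, im.symm, jm.symm, h.q.σ_eq]; ring
  have p0 : φ.B (e m) (s • e i + t • e j + e m) ≠ 0 := by simp [h.Bij, im.symm, jm.symm, h2, N0]
  have b2 : φ.B (e m) (t • e i + (-s) • e j) = 0 := by simp [h.Bij, im.symm, jm.symm]
  have S := h.q.ss_of_om h2 hF hT (hp := hp) (cT pT) (cT uT) b1 (q3 ▸ neg_ne_zero.2 N0)
  obtain ⟨l0, hl0⟩ := h.ex [i, j, m] (by simp)
  refine h.ff0 hL pT (fun a => p0 (by simp [a])) (fun w a b => S w (cT a) b) (fun l lT => ?_) (l := l0)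
    (by simpa using hl0)
  obtain ⟨l', hl'⟩ := h.ex [i, j, m, l] (by simp)
  have hl := lT
  simp only [List.mem_cons, List.not_mem_nil, or_false, not_or, Finset.mem_insert, Finset.mem_singleton] at hl hl'
  have r3 := h.rt_sub (Ne.symm hl.2.2)
  have r4 := h.rt_sub (Ne.symm hl'.2.2.2)
  have t1 := h.rr hL r3.2.1 r4.2.1 (by rw [r3.1, r4.1])
  set t0 := φ.refl (e m - e l) * φ.refl (e l - e l') with ht
  have t2 : t0.1 (e m) = e l := by
    rw [ht, Isom.mul_apply, h.q.refl_of_orth (v := e l - e l') (by simp [h.Bij, hl, hl']), r3.2.2]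
  have t3 : ∀ k, m ≠ k → l ≠ k → l' ≠ k → t0.1 (e k) = e k := fun k a b c => by
    rw [ht, Isom.mul_apply, h.q.refl_of_orth (v := e l - e l') (by simp [h.Bij, b, c]),
      h.q.refl_of_orth (by simp [h.Bij, a, b])]
  have t5 : t0.1 (t • e i + (-s) • e j) = t • e i + (-s) • e j := by
    simp only [map_add, map_smul, t3 i im.symm hl.1 hl'.1, t3 j jm.symm hl.2.1 hl'.2.1]
  generalize t • e i + (-s) • e j = u at *
  generalize s • e i + t • e j + e m = y at *
  have q4 : φ.Q ((4 : F) • u + (5 : F) • e m) = 3 * 3 * φ.Q (e m) := by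
    rw [h.q.Q_comb, q3, h.Qe, φ.B_symm_zero b2]; ring
  have t4 := mul_mem (mul_mem t1 (hT _ (add_mem (Submodule.smul_mem _ _ (cT uT)) (Submodule.smul_mem _ _
    (cT (e_mem (by simp))))) _ (cT (e_mem (by simp))) (by simp [q4, h.Qe, h3, N0]) 3 h3 q4)) (inv_mem t1)
  have q5 := Isom.Q_map t0 ((4 : F) • u + (5 : F) • e m)
  rw [← conj_mul, h.q.refl_conj, h.q.refl_conj] at t4
  simp only [map_add, map_smul, t2, t5] at t4 q5
  have b3 := h.mem_co.1 pT l lT
  have b4 := h.mem_co.1 uT l lT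
  have S1 := S _ (cT uT) b1
  have S2 := h.q.ss_refl₂ (by simp [q5, q4, h.Qe, h3, N0]) t4 (by simp [φ.B_symm_zero b1, b3]) b3 S1 b4
    (by simp [b4, h.q.B_self, q3, h2, h4, N0, h.q.σ_eq])
  exact (Submodule.smul_mem_iff _ h5).1 ((add_mem_cancel_left (Submodule.smul_mem _ _ S1)).1 S2)

omit ij w0 w1 w2 hU in
theorem gf {a v : V} (hK : ∀ i, Rf L (e i)) (ha : Rf L a) (ha' : φ.Rt e a) (hE : ∀ g ∈ L, g ∈ φ.E ∨ g * φ.refl a ∈ φ.E) (hv : Rf L v)
    (hv' : ¬ φ.Rt e v) : φ.E ≤ L := by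
  have n := h.n10
  have h2 := h.h2
  have N0 := h.N0
  obtain ⟨x, x1, x2, x3⟩ := h.small hK _ hv hv' le_rfl
  obtain ⟨f, f1, -⟩ := ex_not (φ.supp e x) [] (by simp; omega)
  by_cases h3 : (3 : F) = 0
  · exact h.gf3 hF hL hK h3 x1 x2 (by simpa [mem_supp] using f1)
  obtain ⟨y, y1, y3, y2⟩ : ∃ y, Rf L y ∧ (φ.supp e y).card ≤ 3 ∧ ¬ φ.Rt e y := by
    by_contra! H
    obtain ⟨i, j, k, l, ij, ik, il, jk, jl, kl, d⟩ := Finset.card_eq_four.1
      (x3.antisymm (by_contra fun c => x2 (H x x1 (by omega))))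
    have m : ∀ n, φ.B (e n) x ≠ 0 ↔ n = i ∨ n = j ∨ n = k ∨ n = l := fun n => by rw [← mem_supp, d]; simp
    simp only [d, Finset.mem_insert, Finset.mem_singleton, not_or] at f1
    exact h.no4 hK H hL h3 x1 ⟨ij, ik, il, Ne.symm f1.1, jk, jl, Ne.symm f1.2.1, kl, Ne.symm f1.2.2.1, Ne.symm f1.2.2.2⟩
      (fun n a b c d => by_contra fun g => by simpa [a, b, c, d] using (m n).1 g) ((m i).2 (by simp)) ((m j).2 (by simp))
      ((m k).2 (by simp)) ((m l).2 (by simp))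
  obtain ⟨k, k1, k2⟩ := h.good3 y1.1 y2 y3
  obtain ⟨T, T1, -, T2⟩ := Finset.exists_subsuperset_card_eq (φ.supp e y).subset_univ y3 (by simp; omega)
  obtain ⟨i, j, ij, T3⟩ := Finset.card_eq_two.1 (by rw [Finset.card_erase_of_mem (T1 (mem_supp.2 k1)), T2])
  have i1 := Finset.mem_erase.1 (T3 ▸ (by simp : i ∈ ({i, j} : Finset κ)))
  have j1 := Finset.mem_erase.1 (T3 ▸ (by simp : j ∈ ({i, j} : Finset κ)))
  have y4 : ∀ n, n ≠ i → n ≠ j → n ≠ k → φ.B (e n) y = 0 := fun n a b c => by_contra fun d => by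
    simpa [T3, a, b] using Finset.mem_erase.2 ⟨c, T1 (mem_supp.2 d)⟩
  obtain ⟨m, m1⟩ := h.ex [i, j, k] (by simp)
  obtain ⟨m', m2⟩ := h.ex [i, j, k, m] (by simp)
  simp only [List.mem_cons, List.not_mem_nil, or_false, not_or] at m1 m2
  obtain ⟨K, K1, K2, K3⟩ := h.exK hL ha ha' hE m2.2.2.2
  replace y1 : Rf K y := ⟨y1.1, K2 _ y1.2 (h.q.refl_of_orth (φ.B_symm_zero (y4 _ m2.1 m2.2.1 m2.2.2.1)))
    (h.q.refl_of_orth (φ.B_symm_zero (y4 _ m1.1 m1.2.1 m1.2.2)))⟩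
  obtain ⟨p, _, -, hp, -⟩ := @FiniteField.card' F _ (Fintype.ofFinite F)
  have := Fact.mk hp
  have c0 : φ.B (e k) y / (2 * N) ≠ 0 := by simp [k1, h2, N0]
  have q : φ.Q ((φ.B (e k) y / (2 * N)) • e k) = φ.B (e k) y ^ 2 / (2 * 2 * N) := by
    rw [h.q.Q_smul, h.Qe]; field_simp
  have o : φ.B (e k) (y - (φ.B (e k) y / (2 * N)) • e k) = 0 := by simp [h.Bee, h2, N0]
  have q' := φ.Q_add_of_orth (φ.B_symm_zero (show φ.B ((φ.B (e k) y / (2 * N)) • e k)
    (y - (φ.B (e k) y / (2 * N)) • e k) = 0 by rw [h.q.B_smul_left, o, mul_zero]))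
  have hU := h.om hF p K1 ij (K3 _ (h.rt_e i) (h.orth _ _ m2.1) (h.orth _ _ m1.1))
    (K3 _ (h.rt_sub ij).2.1 (by simp [h.Bij, m2]) (by simp [h.Bij, m1])) (u := y - (φ.B (e k) y / (2 * N)) • e k)
    (w := (φ.B (e k) y / (2 * N)) • e k) (h.mem_pair.2 fun n a b => by
      by_cases c : n = k
      · rw [c, o]
      · simp [h.orth n k c, y4 n a b c])
    (fun a => y2 (h.rt_ln (i := k) (sub_eq_zero.1 a ▸ Submodule.smul_mem _ _ (Submodule.mem_span_singleton_self _))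
      fun b => k1 (by simp [b]))) (by simp [q, k1, h2, N0]) (by simp [h.orth i k i1.1]) (by simp [h.orth j k j1.1])
    (by rwa [sub_add_cancel]) fun a => k2 (by
      rw [sub_add_cancel] at a q'
      rw [q] at q'
      field_simp at q'
      linear_combination -2 * N * a - q')
  rw [Submodule.span_singleton_smul_eq (by simpa using c0)] at hU
  by_cases h5 : (5 : F) = 0
  · exact h.fin5 hF hL ij (h.rt_e k).1 (h.orth i k i1.1) (h.orth j k j1.1) hU h5
  refine h.fin7 hF hL h3 h5 ij i1.1 j1.1 hU ?_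
  rw [← Submodule.span_union]; exact Submodule.span_mono (by simp [Set.image_insert_eq, Set.insert_subset_iff])

end

variable {e : κ → V} {N : F} (h : φ.Fr5 e N)
include h

theorem fr {g : φ.Isom} {a : V} (ha : φ.Rt e a) (hg : ∀ b, φ.Rt e b → chi (φ.Q a) = chi (φ.Q b) → φ.Rt e (g.1 b)) :
    g ∈ φ.dstab (ln F e) := h.mem_dstab.2 fun i => by
  by_cases c : chi (φ.Q a) = chi (2 * N)
  swap
  · have c' := (h.root_chi ha).resolve_right c
    have r := hg _ (h.rt_e i) (by rw [c', h.Qe])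
    obtain ⟨j, hj⟩ := h.root_ex r
    exact ⟨j, ((h.root_cls r hj).resolve_right fun ⟨_, _, _, d⟩ => c (by rw [c', ← d, Isom.Q_map, h.Qe])).1⟩
  have r1 : ∀ j, j ≠ i → φ.Rt e (g.1 (e j) + g.1 (e i)) := fun j a => map_add g.1 _ _ ▸
    hg _ (h.rt_add a).2 (by rw [c, (h.rt_add a).1])
  have r2 : ∀ j, j ≠ i → φ.Rt e (g.1 (e j) - g.1 (e i)) := fun j a => map_sub g.1 _ _ ▸
    hg _ (h.rt_sub a).2.1 (by rw [c, (h.rt_sub a).1])
  obtain ⟨j, hj⟩ := h.ex [i] (by simp)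
  obtain ⟨k, hk, -⟩ := ex_not (φ.supp e (g.1 (e j) + g.1 (e i)) ∪ φ.supp e (g.1 (e j) - g.1 (e i))) [] (by
    have := h.root_supp (r1 j (by simpa using hj)); have := h.root_supp (r2 j (by simpa using hj))
    have := Finset.card_union_le (φ.supp e (g.1 (e j) + g.1 (e i))) (φ.supp e (g.1 (e j) - g.1 (e i)))
    have := h.n10; simp only [List.length_nil]; omega)
  simp only [Finset.mem_union, mem_supp, not_or, not_not, map_add, map_sub] at hk
  replace hk : φ.B (e k) (g.1 (e i)) = 0 := mul_left_cancel₀ h.h2 (by linear_combination hk.1 - hk.2)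
  clear hj j
  obtain ⟨j, hj⟩ : ∃ j, φ.B (e k) (g.1 (e j)) ≠ 0 := by
    by_contra! H
    exact h.ne0 k (by simpa using (h.tot ((g⁻¹).1 (e k)) fun j => by
      rw [← Isom.B_map g, Isom.apply_inv_apply, h.q.B_comm, H]))
  have ji : j ≠ i := by rintro rfl; exact hj hk
  obtain ⟨l, l1, l2⟩ := h.root_at (i := k) (r1 j ji) (by simpa [hk])
  obtain ⟨m, m1, m2⟩ := h.root_at (i := k) (r2 j ji) (by simpa [hk])
  obtain rfl : l = m := by
    by_contra a
    obtain ⟨s, t, hs⟩ := Submodule.mem_span_pair.1 l2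
    have a1 : φ.B (g.1 (e j) + g.1 (e i)) (g.1 (e j) - g.1 (e i)) = 0 := by simp [h.Bij, ji, ji.symm]
    have a2 := congrArg (φ.B (e k)) hs
    rw [← hs] at a1
    simp only [map_add, map_smulₛₗ, LinearMap.add_apply, LinearMap.smul_apply, h.mem_pair.1 m2 l l1 a] at a1
    simp only [map_add, map_smul, h.Bee, h.orth k l l1.symm, hk, map_sub, smul_eq_mul, h.q.σ_eq] at a1 a2
    exact hj (by rw [show s = 0 by simpa [hj] using a1] at a2; simpa using a2.symm)
  refine ⟨l, h.mem_ln.2 fun n a => ?_⟩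
  by_cases b : n = k
  · rw [b, hk]
  have a1 := h.mem_pair.1 l2 n b a
  have a2 := h.mem_pair.1 m2 n b a
  rw [map_add] at a1; rw [map_sub] at a2
  exact mul_left_cancel₀ h.h2 (by linear_combination a1 - a2)

theorem le_dstab (hF : ∀ c : F, ∃ n : ℕ, c = n) (h7 : Fintype.card κ = 5) {M : Subgroup φ.Isom}
    (hM : φ.E ⊓ φ.dstab (ln F e) ≤ M) (hM' : M ≤ φ.E) (hE : ¬ φ.E ≤ M) {g : φ.Isom} (hg : g ∈ M) : g ∈ φ.dstab (ln F e) := by
  obtain ⟨i, -⟩ := h.ex [] (by simp)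
  have ha := h.rt_e i
  obtain ⟨t, t1, t2, t3, -⟩ := h.neg {i}ᶜ
  have t4 := hM ⟨t3 (by rw [Finset.card_compl, h7, Finset.card_singleton]; decide), t2⟩
  have t5 : ∀ x, (φ.refl (e i)).1 x = -t.1 x := fun x => by
    obtain ⟨u, a, w, b, rfl⟩ := h.split {i}ᶜ x
    obtain ⟨c, rfl⟩ := Submodule.mem_span_singleton.1 (h.mem_ln (i := i).2 (by simpa using h.mem_co.1 b))
    rw [map_add, map_add, t1.1 u a, t1.2 _ (h.perp_of b), h.q.refl_of_orth (h.mem_co.1 a i (by simp)), map_smul,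
      h.q.refl_self ha.1]; module
  have r1 := h.q.refl_mul_self (e i)
  have t6 : ∀ g ∈ M, g ∈ rex M _ r1 := fun g hg => .inl ⟨hg, by
    convert mul_mem (mul_mem t4 hg) t4 using 1
    exact Isom.ext fun x => by simp [Isom.mul_apply, t5]⟩
  set L := rex M _ r1
  have h1 : φ.E ⊓ φ.dstab (ln F e) ≤ L := fun x hx => t6 x (hM hx)
  have h2 : Rf L (e i) := ⟨ha.1, Or.inr (by simp [r1])⟩
  have h3 : ∀ g ∈ L, g ∈ φ.E ∨ g * φ.refl (e i) ∈ φ.E := fun g hg => hg.imp (fun e => hM' e.1) fun e => hM' e.1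
  have h5 : ¬ φ.E ≤ L := fun e => hE fun x hx => (e hx).elim And.left fun e =>
    (h.blk.refl_not_mem ha.1 ((φ.E.mul_mem_cancel_left hx).1 (hM' e.1))).elim
  exact h.fr ha fun b b1 b2 => by_contra fun c => h5 (h.gf hF h1 (fun j => h.blk.rf h1 h2 ha.2 (h.rt_e j).2 (h.rt_e j).1
    (by rw [h.Qe, h.Qe])) h2 ha h3 ((h.blk.rf h1 h2 ha.2 b1.2 b1.1 b2).map h.q (t6 g hg)) c)

theorem not_E_le : ¬ φ.E ≤ φ.dstab (ln F e) := fun H => by
  have n := h.n10
  obtain ⟨i, -⟩ := h.ex [] (by simp)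
  obtain ⟨p, p1, p0, p2⟩ := h.q.exists_singular (W := co F e {i}ᶜ) (by rw [h.finrank_co, Finset.card_compl]; simp; omega)
  have p3 := h.mem_co.1 p1 i (by simp)
  obtain ⟨g, g1, g2⟩ := h.blk.std.exists_E_map h.blk.n5 (h.ne0 i) (v := e i + p)
    (fun a => by simpa [p3, h.Bee, h.h2, h.N0] using congrArg (φ.B (e i)) a) (by simp [φ.Q_add_of_orth p3, p2])
  obtain ⟨j, hj⟩ := h.mem_dstab.1 (H g1) i
  rw [g2, h.mem_ln] at hj
  obtain rfl : i = j := by_contra fun a => by simpa [p3, h.Bee, h.h2, h.N0] using hj i a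
  exact p0 (h.tot p fun k => by
    by_cases a : k = i
    · rw [a, p3]
    · simpa [h.orth k i a] using hj k a)

end Fr5
end Form

section gl
open Matrix Cfsg Cfsg.Geo

/-- stabilisers of orthogonal frames over prime fields -/
theorem isMaximalIn_frame5 {ι : Type} [Fintype ι] [DecidableEq ι] {F : Type*} [Field F] [Fintype F]
    {Q : (ι → F) → F} (hQ : IsNondegenerateQuadraticForm Q) (hn : Fintype.card ι = 5)
    (hp : (Fintype.card F).Prime) {t : ℕ} {D : Fin t → Submodule F (ι → F)} (hD : IsOrthogonalMDecomposition Q 1 D) :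
    IsMaximalIn (omegaGL Q) (decompositionStabilizer D ⊓ omegaGL Q) := by
  obtain ⟨Q, rfl, _⟩ := exists_ofQuad hQ
  have h := blk_of (by omega) hD
  have hc := card_eq_of_dec hD.decomp.decomp
  have hF : ∀ c : F, ∃ n : ℕ, c = n := fun c => by
    have := Fact.mk hp
    obtain ⟨x, rfl⟩ := (ZMod.ringEquivOfPrime F hp rfl).surjective c
    exact ⟨x.val, by rw [← map_natCast (ZMod.ringEquivOfPrime F hp rfl), ZMod.natCast_zmod_val]⟩
  obtain ⟨i⟩ : Nonempty (Fin t) := ⟨⟨0, by omega⟩⟩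
  have := (h.od.nondeg i).nondeg
  have h2 := (h.q.restrict (D i)).two_ne_zero_of_odd (by rw [h.rk]; exact odd_one)
  obtain ⟨a, ha, a0⟩ := h.q.exists_Q_ne (h.od.nondeg i) fun e => by have := h.rk i; rw [e, finrank_bot] at this; omega
  choose e e1 e2 e3 using h.exists_eq ha (by rintro rfl; simp at a0)
  obtain rfl : D = Form.ln F e := funext fun j => (Submodule.eq_of_le_of_finrank_le
    ((Submodule.span_singleton_le_iff_mem _ _).2 (e1 j)) (by rw [h.rk, finrank_span_singleton (e2 j)])).symm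
  have f : (Form.ofQuad Q).Fr5 e _ := ⟨h.q, h2, a0, e3, fun i j a => h.od.orth i j a (e1 j) _ (e1 i),
    fun x a => h.od.eq_zero fun i => (Form.ofQuad Q).mem_perp_singleton.2 (a i), by simp; omega⟩
  rw [omegaGL_eq_E _ (by omega)]
  refine isMaximalIn_map _ (by rw [comap_decompositionStabilizer]; exact f.not_E_le) fun M hM g hg hg1 hg2 => ?_
  rw [comap_decompositionStabilizer] at hM
  by_contra hE
  exact hg2 ((comap_decompositionStabilizer _).ge (f.le_dstab hF (by simp; omega) (M := M ⊓ (Form.ofQuad Q).E)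
    (le_inf hM inf_le_left) inf_le_right (fun e => hE (e.trans inf_le_left)) ⟨hg, hg1⟩))

end gl
end H10
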