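import Mathlib
import Cfsg.Agent.H07.L1
import Cfsg.Agent.H01.Gaschutz

/-! Sylow type `L₃(4)`: the affine case. -/

set_option autoImplicit false

namespace H10.L34
open Subgroup H07.L4 H26 Finset

universe u v

theorem osum {A G X M : Type*} [Group A] [Fintype A] [Group G] [MulAction G X] [Fintype X] [AddCommMonoid M] (θ : A →* G) (g : X → M)
    (h1 : ∀ x, (∀ a, θ a • x = x) → g x = 0) (h2 : ∀ (x : X) a, a ≠ 1 → θ a • x = x → ∀ b, θ b • x = x) (h3 : ∀ x, ∑ a, g (θ a • x) = 0) :
    ∑ x, g x = 0 := by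
  classical
  refine sum_cancels_of_partition_cancels ⟨fun x y => ∃ a, θ a • y = x, fun x => ⟨1, by simp⟩, fun ⟨a, h⟩ => ⟨a⁻¹, by simp [← h]⟩,
    fun ⟨a, h⟩ ⟨b, h'⟩ => ⟨a * b, by simp [mul_smul, h, h']⟩⟩ fun x _ => ?_
  by_cases c : ∀ a, θ a • x = x
  · exact sum_eq_zero fun y m => by obtain ⟨a, rfl⟩ := (mem_filter.1 m).2; rw [c, h1 x c]
  rw [← h3 x]
  exact (sum_bij (fun a _ => θ a • x) (fun a _ => mem_filter.2 ⟨mem_univ _, a, rfl⟩) (fun a _ b _ e => by_contra fun n =>
    c (h2 x (b⁻¹ * a) (by rwa [Ne, inv_mul_eq_one, eq_comm]) (by rw [map_mul, mul_smul, e, map_inv, inv_smul_smul])))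
    (fun y m => (mem_filter.1 m).2.imp fun a h => ⟨mem_univ _, h⟩) fun _ _ => rfl).symm

variable {F : Type v} [Field F] [Fintype F] {G : Type u} [Group G] [Finite G] {u : F → F → F → G} (h : Hs u)
include h

omit [Finite G] in
theorem exR [n : (E u).Normal] : ∃ R : G →* AddMonoid.End (F × F), ∀ g v, g * u v.1 0 v.2 * g⁻¹ = u (R g v).1 0 (R g v).2 := by
  have : ∀ g, ∀ v : F × F, ∃ w : F × F, g * u v.1 0 v.2 * g⁻¹ = u w.1 0 w.2 := fun g v => by
    obtain ⟨a, c, e⟩ := h.memE.1 (n.conj_mem _ (h.mE.2 rfl : u v.1 0 v.2 ∈ _) g)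
    exact ⟨(a, c), e.symm⟩
  choose R hR using this
  have ext : ∀ {v w : F × F}, u v.1 0 v.2 = u w.1 0 w.2 → v = w := fun e => Prod.ext (h.eq.1 e).1 (h.eq.1 e).2.2
  have ad : ∀ v w : F × F, u (v + w).1 0 (v + w).2 = u v.1 0 v.2 * u w.1 0 w.2 := fun v w => by simp [h.mul]
  exact ⟨⟨⟨fun g => AddMonoidHom.mk' (R g) fun v w => ext (by rw [← hR, ad, ad, ← hR, ← hR, conj_mul]),
    AddMonoidHom.ext fun v => ext ((hR 1 v).symm.trans (by simp; rfl))⟩, fun g k => AddMonoidHom.ext fun v => ext ((hR _ v).symm.trans (by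
      change _ = u (R g (R k v)).1 0 (R g (R k v)).2
      rw [← hR, ← hR]; group))⟩, hR⟩

omit h [Fintype F] in
theorem st {X : AddMonoid.End (F × F)} (e : ∀ a b c, X (a, c + a * b) = ((X (a, c)).1, (X (a, c)).2 + (X (a, c)).1 * b)) (a c : F) :
    X (a, c) = ((X (0, 1)).2 * a, (X (0, 1)).2 * c + (X (a, 0)).2) := by
  have k : ∀ a b c, X (0, a * b) = (0, (X (a, c)).1 * b) := fun a b c => by
    have := e a b c
    rw [show (a, c + a * b) = (a, c) + (0, a * b) by simp, map_add] at this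
    exact add_left_cancel (this.trans (by ext <;> simp))
  have k1 : ∀ b, X (0, b) = (0, (X (0, 1)).2 * b) := fun b => by
    have := k 1 b 0
    have t := k 1 1 0
    rw [one_mul] at this t
    rw [this, t, mul_one]
  refine Prod.ext ?_ ?_
  · have := k a 1 c
    rw [mul_one, mul_one, k1] at this
    exact (congrArg Prod.snd this).symm
  · rw [show (a, c) = (0, c) + (a, 0) by simp, map_add, k1 c]; rfl

theorem lin (hc : centralizer (E u : Set G) ≤ E u) [n : (E u).Normal] {R : G →* AddMonoid.End (F × F)}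
    (hR : ∀ g v, g * u v.1 0 v.2 * g⁻¹ = u (R g v).1 0 (R g v).2) :
    ∃ (Y : AddMonoid.End (F × F)) (α : F), α + α ^ 2 = 1 ∧ (∀ g, R g * Y = Y * R g) ∧ ∀ a c, Y (a, c) = (α * a, α * c + (Y (a, 0)).2) := by
  classical
  have := Fintype.ofFinite (G ⧸ T u)
  have : CharP F 2 := CharTwo.of_one_ne_zero_of_two_eq_zero one_ne_zero h.two
  have r : ∀ a b c a' c', R (u a b c) (a', c') = (a', c' + a' * b) := fun a b c a' c' => by
    have := h.eq.1 ((h.cj ..).symm.trans (hR (u a b c) (a', c')))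
    exact Prod.ext this.1.symm (by simpa using this.2.2.symm)
  have s : ∀ X : AddMonoid.End (F × F), (∀ b, R (u 0 b 0) * X = X * R (u 0 b 0)) → ∀ a c, X (a, c) = _ := fun X e => st fun a b c => by
    have : R _ (X (a, c)) = X (R _ (a, c)) := DFunLike.congr_fun (e b) (a, c)
    rw [r, r] at this
    exact this.symm
  obtain ⟨w, w0, w1⟩ : ∃ w : F, w ≠ 0 ∧ w ≠ 1 := by
    by_contra! k
    have := card_le_card (show (univ : Finset F) ⊆ {0, 1} from fun x _ => by simpa [or_iff_not_imp_left] using k x)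
    rw [card_univ, h.c4] at this
    exact absurd (this.trans card_le_two) (by decide)
  have w2 : w * w + w + 1 = 0 := mul_left_cancel₀ (sub_ne_zero.2 w1) (by linear_combination h.cube w0)
  let ω : AddMonoid.End (F × F) := DistribMulAction.toAddMonoidEnd F (F × F) w
  have i : ∀ g, R g⁻¹ * R g = 1 := fun g => by rw [← map_mul, inv_mul_cancel, map_one]
  let f : G ⧸ T u → AddMonoid.End (F × F) := Quotient.lift (fun g => R g * ω * R g⁻¹) fun x y k => by
    obtain ⟨a, b, c, e⟩ := h.memT.1 (QuotientGroup.leftRel_apply.1 k)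
    have : R (u a b c) * ω = ω * R (u a b c) := AddMonoidHom.ext fun v => by
      change R _ (w * v.1, w * v.2) = w • R _ (v.1, v.2)
      rw [r, r]; ext <;> simp; ring
    rw [← mul_inv_cancel_left x y, ← e, map_mul, mul_assoc (R x) (R (u ..)), this, mul_inv_rev, map_mul]
    simp only [mul_assoc]
    rw [← mul_assoc (R (u ..)), ← map_mul, mul_inv_cancel, map_one, one_mul]
  have e : ∀ (g : G) q, f (g • q) = R g * f q * R g⁻¹ := fun g q => by
    induction q using QuotientGroup.induction_on with | H k =>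
    change R (g * k) * ω * R (g * k)⁻¹ = R g * (R k * ω * R k⁻¹) * _
    simp only [mul_inv_rev, map_mul, mul_assoc]
  have y : ∀ g, R g * ∑ q, f q = (∑ q, f q) * R g := fun g => by
    rw [mul_sum, sum_mul, ← Equiv.sum_comp (MulAction.toPerm g) fun q => f q * R g]
    exact sum_congr rfl fun q _ => by rw [MulAction.toPerm_apply, e, mul_assoc, i, mul_one]
  refine ⟨_, _, ?_, y, s _ fun b => y _⟩
  let θ : Multiplicative F →* G := .mk' (fun b => u 0 b.toAdd 0) fun a b => by simp [h.mul]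
  have := osum θ (fun q => (f q (0, 1)).2 + (f q (0, 1)).2 ^ 2 + 1) (fun q k => ?_) (fun q b b1 k b' => ?_) fun q => ?_
  · rw [sum_add_distrib, sum_add_distrib, ← CharTwo.sum_sq, ← Prod.snd_sum, sum_const, card_univ,
      ← Nat.card_eq_fintype_card, ← index_eq_card, nsmul_one, CharTwo.add_eq_zero] at this
    obtain ⟨m, k⟩ := Nat.not_even_iff_odd.1 fun k => h.odd k.two_dvd
    exact (congrArg (fun x : F × F => x.2 + x.2 ^ 2) (AddMonoidHom.finset_sum_apply f _ _)).trans (this.trans (by rw [k]; simp [h.two]))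
  · have k1 := s (f q) (fun b => by
      have := e (θ (.ofAdd b)) q
      rw [k] at this
      change R (θ (.ofAdd b)) * _ = _ * R (θ (.ofAdd b))
      conv_rhs => rw [this, mul_assoc, i, mul_one]) 0
    have k2 : f q * f q + f q + 1 = 0 := by
      induction q using QuotientGroup.induction_on with | H g =>
      change R g * ω * R g⁻¹ * (R g * ω * R g⁻¹) + R g * ω * R g⁻¹ + 1 = 0
      have : ω * ω + ω + 1 = 0 := AddMonoidHom.ext fun v => by
        change w • w • v + w • v + v = 0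
        rw [smul_smul, ← add_smul, ← one_smul F v, smul_smul, mul_one, ← add_smul, w2, zero_smul]
      calc _ = R g * (ω * (R g⁻¹ * R g) * ω + ω + 1) * R g⁻¹ := by
            simp only [mul_add, add_mul, mul_assoc, mul_one]; rw [← map_mul R g, mul_inv_cancel, map_one]
        _ = 0 := by rw [i, mul_one, this, mul_zero, zero_mul]
    have k3 : (f q (f q (0, 1))).2 + (f q (0, 1)).2 + 1 = 0 := congrArg Prod.snd (DFunLike.congr_fun k2 (0, 1))
    simp only [mul_zero, show ((0 : F), (0 : F)) = 0 from rfl, map_zero, Prod.snd_zero, add_zero] at k1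
    rw [k1 1, k1, mul_one] at k3
    linear_combination k3
  · induction q using QuotientGroup.induction_on with | H g =>
    have k1 : g⁻¹ * θ b * g ∈ T u := by simpa [mul_assoc] using inv_mem (QuotientGroup.eq.1 k)
    have := h.nT' hc (n := g⁻¹) (by rw [normalizer_eq_top]; trivial) (mem_normalizer_of_cj_le (cj_le_iff.2 fun z hz => h.cen k1
      (fun m => b1 (h.mE.1 (show θ b ∈ _ by simpa [mul_assoc] using n.conj_mem _ m g))) (n.conj_mem _ (h.ZE hz) _) (by
        calc _ = g⁻¹ * (θ b * z) * g := by group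
          _ = _ := by rw [h.Zc hz (show θ b ∈ _ from h.mT _ _ _)]; group)))
    exact QuotientGroup.eq.2 (by simpa [mul_assoc] using inv_mem ((mem_normalizer_iff.1 this _).1 (show θ b' ∈ T u from h.mT _ _ _)))
  have k : ∀ b, (f (θ b • q) (0, 1)).2 = (f q (0, 1)).2 + (f q (0, 1)).1 * b.toAdd := fun b => by
    rw [e]
    change (R (u ..) (f q (R (u ..)⁻¹ (0, 1)))).2 = _
    rw [h.inv, r, r]; simp
  simp only [k]
  rw [← Multiplicative.ofAdd.sum_comp]
  have s0 := FiniteField.sum_pow_lt_card_sub_one F 0 (by rw [h.c4]; decide)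
  have s1 := FiniteField.sum_pow_lt_card_sub_one F 1 (by rw [h.c4]; decide)
  have s2 := FiniteField.sum_pow_lt_card_sub_one F 2 (by rw [h.c4]; decide)
  generalize f q (0, 1) = x
  calc _ = ∑ b : F, ((x.2 + x.2 ^ 2 + 1) * b ^ 0 + (x.1 + 2 * x.1 * x.2) * b ^ 1 + x.1 ^ 2 * b ^ 2) := sum_congr rfl fun b _ => by simp; ring
    _ = 0 := by simp only [sum_add_distrib, ← mul_sum, s0, s1, s2, mul_zero, add_zero]

omit h [Fintype F] [Finite G] in
theorem emb {V : Type v} [AddCommGroup V] [Module F V] [FiniteDimensional F V] (hV : Module.finrank F V = 2) (L : G →* Module.End F V)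
    (d : G → V) (hd : ∀ g k, d (g * k) = d g + L g (d k)) {β : F} (b0 : β ≠ 0) (b1 : β ≠ 1) (i : ∀ g, L g = 1 → d g = 0 → g = 1) :
    ∃ f : G →* PG F, Function.Injective f := by
  have d1 : d 1 = 0 := by simpa using hd 1 1
  let f : G →* Module.End F (V × F) := ⟨⟨fun g => (L g ∘ₗ .fst F V F + (LinearMap.snd F V F).smulRight (d g)).prod (.snd F V F),
    LinearMap.ext fun x => by simp [d1]⟩, fun g k => LinearMap.ext fun x => by simp [hd]; abel⟩
  have hf : ∀ g v t, f g (v, t) = (L g v + t • d g, t) := fun _ _ _ => rfl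
  let e := Units.mapEquiv (LinearMap.toMatrixAlgEquiv (Module.finBasisOfFinrankEq F (V × F) (n := 3) (by simp [hV]))).toMulEquiv
  refine ⟨(QuotientGroup.mk' _).comp (e.toMonoidHom.comp f.toHomUnits), (injective_iff_map_eq_one _).2 fun g k => ?_⟩
  have c : ∀ x : (V × F) ≃ₗ[F] V × F, ∀ y, x (f g y) = f g (x y) := fun x y => by
    have := mem_center_iff.1 ((QuotientGroup.eq_one_iff _).1 k) (e ((LinearMap.GeneralLinearGroup.generalLinearEquiv F _).symm x))
    exact LinearMap.congr_fun (congrArg Units.val (e.injective ((map_mul e ..).trans (this.trans (map_mul e ..).symm)))) y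
  have d0 : d g = 0 := by
    have := congrArg Prod.fst (c ((LinearEquiv.smulOfNeZero F V β b0).prodCongr (.refl F F)) (0, 1))
    simp only [hf, LinearEquiv.prodCongr_apply, map_zero, zero_add, one_smul, LinearEquiv.smulOfNeZero_apply, LinearEquiv.refl_apply] at this
    exact (smul_eq_zero.1 (show (β - 1) • d g = 0 by rw [sub_smul, one_smul, sub_eq_zero]; exact this)).resolve_left (sub_ne_zero.2 b1)
  refine i g (LinearMap.ext fun v => ?_) d0
  have := congrArg Prod.fst (c ((LinearEquiv.prodComm F V F).trans (((LinearEquiv.refl F F).skewProd (.refl F V)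
    (LinearMap.toSpanSingleton F V v)).trans (LinearEquiv.prodComm F F V))) (0, 1))
  simpa [hf, d0] using this.symm

omit h in
theorem l : LStmt.{u, v} := fun G _ _ F _ _ u h n hc => by
  obtain ⟨R, hR⟩ := exR h
  obtain ⟨Y, α, a, y, s⟩ := lin h hc hR
  have : CharP F 2 := CharTwo.of_one_ne_zero_of_two_eq_zero one_ne_zero h.two
  let φ : F →+ F := .mk' (fun a => (Y (a, 0)).2) fun a b => by rw [← Prod.snd_add, ← map_add]; simp
  replace s : ∀ a c, Y (a, c) = (α * a, α * c + φ a) := s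
  let C : AddMonoid.End (F × F) := AddMonoidHom.mk' (fun v => (v.1, v.2 + (φ (α * v.1) + α * φ v.1))) fun v w => by
    ext <;> simp [mul_add]; ring
  have hC : ∀ v, C v = (v.1, v.2 + (φ (α * v.1) + α * φ v.1)) := fun _ => rfl
  have c2 : ∀ v, C (C v) = v := fun v => by simp only [hC, add_assoc v.2, h.aa, add_zero]
  have a2 : α * α = α + 1 := by linear_combination a - α * h.two
  have cy : ∀ v, C (Y (Y (C v))) = (α + 1) • v := fun v => by
    simp only [hC, s, ← mul_assoc, a2]
    ext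
    · simp
    · simp only [show α * (α + 1) = 1 by linear_combination a, one_mul, add_mul, map_add, Prod.smul_snd, smul_eq_mul]
      linear_combination (v.2 + φ (α * v.1) + (α - 1) * φ v.1) * a + (-α * v.2 + φ (α * v.1) + 2 * α * φ v.1) * h.two
  have a0 : α ≠ 0 := by rintro rfl; simp at a
  have a1 : α ≠ 1 := by rintro rfl; simp [h.aa] at a
  have four : ∀ c : F, c = 0 ∨ c = 1 ∨ c = α + 1 ∨ c = α + 1 + 1 := fun c => by
    by_cases c0 : c = 0
    · exact .inl c0
    have : (c - 1) * ((c - (α + 1)) * (c - (α + 1 + 1))) = 0 := by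
      linear_combination h.cube c0 + (c - 1) * a + (-c ^ 2 * (α + 2) + c * (2 * α + 3) - α - 1) * h.two
    simpa [c0, sub_eq_zero] using this
  have yy : ∀ g v, R g (Y v) = Y (R g v) := fun g => DFunLike.congr_fun (y g)
  have sm : ∀ g v, C (R g (C ((α + 1) • v))) = (α + 1) • C (R g (C v)) := fun g v => by rw [← cy, ← cy, c2, c2, yy, yy]
  let L : G →* Module.End F (F × F) := ⟨⟨fun g => ⟨⟨fun v => C (R g (C v)), fun v w => by simp only [map_add]⟩, fun c v => by
      rcases four c with rfl | rfl | rfl | rfl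
      exacts [by simp, by simp, sm g v, show C (R g (C (_ • v))) = (α + 1 + 1) • C (R g (C v)) by
        rw [add_smul, one_smul, map_add, map_add, map_add, sm, add_smul (α + 1), one_smul]]⟩,
    LinearMap.ext fun v => by simp [c2]⟩, fun g k => LinearMap.ext fun v => by simp [c2]⟩
  have : IsMulCommutative (E u) := ⟨⟨fun a b => Subtype.ext (h.Ec a.2 b.2)⟩⟩
  let θ : Multiplicative F →* G := .mk' (fun b => u 0 b.toAdd 0) fun a b => by simp [h.mul]
  obtain ⟨H, hH⟩ := H01.gaschutz_exists (E u) (T u) h.ET (by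
    rw [h.cardE]; exact ((Nat.Prime.coprime_iff_not_dvd Nat.prime_two).2 h.odd).pow_left 4) θ.range (eq_bot_iff.2 (by
      rintro _ ⟨⟨b, rfl⟩, m⟩; exact h.eq1.2 ⟨rfl, h.mE.1 m, rfl⟩)) (le_antisymm (sup_le h.ET (by rintro _ ⟨b, rfl⟩; exact h.mT _ _ _)) fun t m => by
      obtain ⟨a, b, c, rfl⟩ := h.memT.1 m
      convert mul_mem_sup (h.mE.2 rfl : u a 0 (c + a * b) ∈ _) (show θ (.ofAdd b) ∈ θ.range from ⟨_, rfl⟩) using 1
      change _ = _ * u 0 b 0
      simp [h.mul, add_assoc, h.aa])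
  have ex : ∀ g : G, ∃ v : F × F, (u v.1 0 v.2)⁻¹ * g ∈ H := fun g => by
    obtain ⟨⟨e, k⟩, rfl⟩ := hH.2 g
    obtain ⟨a, c, r⟩ := h.memE.1 e.2
    exact ⟨(a, c), by simp [r]⟩
  choose d hd using ex
  have un : ∀ g, ∀ v : F × F, (u v.1 0 v.2)⁻¹ * g ∈ H → d g = v := fun g v m => by
    have := h.eq.1 (inv_mul_eq_one.1 (disjoint_def.1 hH.disjoint (mul_mem (inv_mem (h.mE.2 rfl)) (h.mE.2 rfl))
      (by simpa [mul_assoc] using mul_mem (hd g) (inv_mem m))))
    exact Prod.ext this.1 this.2.2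
  refine emb (by simp) L (fun g => C (d g)) (fun g k => ?_) a0 a1 fun g k m => ?_
  · change _ = _ + C (R g (C (C _)))
    rw [c2, ← map_add, un _ (d g + R g (d k))]
    convert mul_mem (hd g) (hd k) using 1
    rw [show u _ 0 _ = u (d g).1 0 (d g).2 * u (R g (d k)).1 0 (R g (d k)).2 by simp [h.mul], h.Ec (h.mE.2 rfl) (h.mE.2 rfl), ← hR]
    group
  have : g ∈ E u := hc fun e he => by
    obtain ⟨a, c, rfl⟩ := h.memE.1 he
    have t : C (R g (C (C (a, c)))) = C (a, c) := LinearMap.congr_fun k _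
    have := hR g (a, c)
    rw [show R g (a, c) = (a, c) by rw [c2] at t; rw [← c2 (R g (a, c)), t, c2]] at this
    exact (mul_inv_eq_iff_eq_mul.1 this).symm
  exact disjoint_def.1 hH.disjoint this (by simpa [show d g = 0 by rw [← c2 (d g), m, map_zero], h.one] using hd g)

end H10.L34
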