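import Mathlib
import Cfsg.Agent.H10.Perm

/-!
# More on symmetric groups: point stabilisers, `S₆`, imprimitive wreath products
* `range_ofSubtype_ne`, `stabilizer_perm_injective`
* `exists_index_six_no_fixed`, `index_six_cases` : subgroups of index six in `S₆`
* `wr f` : the stabiliser of the partition into fibres of `f`; `wr_trans_ne`, `wr_trans_eq`
-/

set_option autoImplicit false

namespace H10

open Equiv Equiv.Perm MulAction
open scoped Pointwise

variable {α : Type*} [Fintype α] [DecidableEq α]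

omit [Fintype α] in
theorem range_ofSubtype_ne (a : α) :
    (ofSubtype : Perm {y // y ≠ a} →* Perm α).range = stabilizer (Perm α) a := by
  ext g
  constructor
  · rintro ⟨k, rfl⟩
    exact ofSubtype_apply_of_not_mem k (by simp)
  · intro ha
    have ha : g a = a := ha
    have h1 : ∀ x, g x ≠ a ↔ x ≠ a := fun x => not_congr ⟨fun h => g.injective (h.trans ha.symm), fun h => h ▸ ha⟩
    exact ⟨_, ofSubtype_subtypePerm (p := fun y => y ≠ a) h1 fun x hx h => hx (h ▸ ha)⟩

theorem stabilizer_perm_injective (h4 : 4 ≤ Fintype.card α) :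
    Function.Injective fun x : α => stabilizer (Perm α) x := by
  intro x y h
  replace h : stabilizer (Perm α) x = stabilizer (Perm α) y := h
  by_contra hxy
  obtain ⟨z, hz1, hz2, -⟩ := exists_ne_three h4 x y y
  have h1 : swap y z ∈ stabilizer (Perm α) x := swap_apply_of_ne_of_ne hxy hz1.symm
  have h2 : swap y z y = y := (h ▸ h1 : swap y z ∈ stabilizer (Perm α) y)
  rw [swap_apply_left] at h2
  exact hz2 h2

theorem exists_index_six_no_fixed (h6 : Fintype.card α = 6) :
    ∃ H : Subgroup (Perm α), H.index = 6 ∧ ∀ x, ∃ h ∈ H, h x ≠ x := by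
  classical
  haveI : Fact (Nat.Prime 5) := ⟨by norm_num⟩
  have hc : Nat.card (Perm (Fin 5)) = 120 := by rw [Nat.card_perm]; simp; rfl
  obtain ⟨P⟩ : Nonempty (Sylow 5 (Perm (Fin 5))) := inferInstance
  have hP : ∀ Q : Sylow 5 (Perm (Fin 5)), Nat.card Q = 5 := by
    intro Q
    rw [Q.card_eq_multiplicity, hc]
    have : Nat.factorization 120 5 = 1 := by
      rw [show 120 = 5 ^ 1 * 24 by norm_num, Nat.factorization_mul (by norm_num) (by norm_num)]
      simp [Nat.factorization_eq_zero_of_not_dvd, Nat.Prime.factorization (show Nat.Prime 5 by norm_num)]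
    rw [this]; rfl
  have hA : Nat.card (alternatingGroup (Fin 5)) = 60 := by rw [nat_card_alternatingGroup]; simp; rfl
  have h1 : Nat.card (Sylow 5 (Perm (Fin 5))) = 6 := by
    have h2 := card_sylow_modEq_one 5 (Perm (Fin 5))
    have h3 := P.card_dvd_index
    have h4 := (P : Subgroup (Perm (Fin 5))).card_mul_index
    rw [hP, hc] at h4
    have h5 : (P : Subgroup (Perm (Fin 5))).index = 24 := by omega
    rw [h5] at h3
    have h6 : Nat.card (Sylow 5 (Perm (Fin 5))) ≠ 1 := by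
      intro h
      haveI := (Nat.card_eq_one_iff_unique.1 h).1
      haveI := P.normal_of_subsingleton
      have h7 := alternatingGroup_le_of_normal (α := Fin 5) (by simp) (N := (P : Subgroup (Perm (Fin 5))))
        (Finite.one_lt_card_iff_nontrivial.1 (by rw [hP]; omega))
      have := Subgroup.card_le_of_le h7
      rw [hP] at this
      omega
    have h7 := Nat.le_of_dvd (by omega) h3
    generalize Nat.card (Sylow 5 (Perm (Fin 5))) = k at *
    unfold Nat.ModEq at h2
    interval_cases k <;> omega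
  obtain ⟨e⟩ : Nonempty (Sylow 5 (Perm (Fin 5)) ≃ α) := Finite.card_eq.1 (by rw [h1, Nat.card_eq_fintype_card, h6])
  let f : Perm (Fin 5) →* Perm α :=
    (e.permCongrHom.toMonoidHom).comp (MulAction.toPermHom (Perm (Fin 5)) (Sylow 5 (Perm (Fin 5))))
  have hf : Function.Injective f := by
    refine e.permCongrHom.injective.comp ?_
    rw [← MonoidHom.ker_eq_bot_iff]
    by_contra hne
    have h7 := alternatingGroup_le_of_normal (α := Fin 5) (by simp) ((Subgroup.nontrivial_iff_ne_bot _).2 hne)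
    have h8 : alternatingGroup (Fin 5) ≤ stabilizer (Perm (Fin 5)) P := fun g hg =>
      congrArg (fun k : Perm (Sylow 5 (Perm (Fin 5))) => k P) (h7 hg)
    have h9 := Subgroup.index_dvd_of_le h8
    rw [alternatingGroup.index_eq_two, index_stabilizer_of_transitive, h1] at h9
    omega
  refine ⟨f.range, ?_, fun x => ?_⟩
  · have h2 := f.range.card_mul_index
    rw [← Nat.card_congr (MonoidHom.ofInjective hf).toEquiv, hc, Nat.card_perm, Nat.card_eq_fintype_card, h6] at h2
    have : Nat.factorial 6 = 720 := rfl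
    omega
  · haveI : Nontrivial α := Fintype.one_lt_card_iff_nontrivial.1 (by omega)
    obtain ⟨y, hy⟩ := exists_ne x
    obtain ⟨g, hg⟩ := MulAction.exists_smul_eq (Perm (Fin 5)) (e.symm x) (e.symm y)
    refine ⟨f g, ⟨g, rfl⟩, ?_⟩
    change e (g • e.symm x) ≠ x
    rw [hg, e.apply_symm_apply]; exact hy

theorem eq_stabilizer_of_conj {ψ : MulAut (Perm α)} {σ : Perm α} (h : ∀ g, ψ g = σ * g * σ⁻¹) (x : α) (g : Perm α) :
    ψ g x = x ↔ g (σ⁻¹ x) = σ⁻¹ x := by
  rw [h, Perm.mul_apply, Perm.mul_apply, eq_inv_iff_eq]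

theorem index_six_cases (h6 : Fintype.card α = 6) : ∃ τ : MulAut (Perm α),
    (∀ y x, ∃ g, τ g y = y ∧ g x ≠ x) ∧ ∀ H : Subgroup (Perm α), H.index = 6 →
      (∃ x : α, H = stabilizer (Perm α) x) ∨ ∃ y : α, H = (stabilizer (Perm α) y).comap τ.toMonoidHom := by
  obtain ⟨H₀, h1, h2⟩ := exists_index_six_no_fixed h6
  obtain ⟨τ, x₀, hτ⟩ := exists_aut_of_index (by omega) H₀ (by rw [h1, h6])
  have key : ∀ ψ : MulAut (Perm α), (∃ σ : Perm α, ∀ g, ψ g = σ * g * σ⁻¹) ∨
      ∀ d : Perm α, IsThreeCycle d → (ψ⁻¹ d).cycleType = Multiset.replicate 2 3 := by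
    intro ψ
    by_cases h : ∀ c : Perm α, IsThreeCycle c → IsThreeCycle (ψ c)
    · exact Or.inl (aut_perm_conj (by omega) ψ h)
    · right
      push Not at h
      obtain ⟨c, hc, hc'⟩ := h
      intro d hd
      refine ((aut_perm_threeCycle ψ⁻¹ hd).resolve_left fun h => hc' ?_).2
      have h3 : IsConj (ψ (ψ⁻¹ d)) (ψ c) := ψ.toMonoidHom.map_isConj (isConj_of_cycleType_eq (h.trans hc.symm))
      rw [MulAut.apply_inv_self, isConj_iff_cycleType_eq] at h3
      exact h3.symm.trans hd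
  have hτ' : ∀ d : Perm α, IsThreeCycle d → (τ⁻¹ d).cycleType = Multiset.replicate 2 3 := by
    refine (key τ).resolve_left ?_
    rintro ⟨σ, hσ⟩
    obtain ⟨h, hh, hh'⟩ := h2 (σ⁻¹ x₀)
    exact hh' ((eq_stabilizer_of_conj hσ x₀ h).1 ((hτ h).1 hh))
  refine ⟨τ, fun y x => ?_, fun H hH => ?_⟩
  · obtain ⟨h, hh, hh'⟩ := h2 (τ⁻¹ (swap y x₀) x)
    refine ⟨(τ⁻¹ (swap y x₀))⁻¹ * h * τ⁻¹ (swap y x₀), ?_, fun he => hh' ?_⟩
    · rw [map_mul, map_mul, map_inv, MulAut.apply_inv_self]
      simp [(hτ h).1 hh]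
    · exact inv_eq_iff_eq.1 he
  · obtain ⟨ψ, x, hψ⟩ := exists_aut_of_index (by omega) H (by rw [hH, h6])
    rcases key ψ with ⟨σ, hσ⟩ | h
    · exact Or.inl ⟨σ⁻¹ x, Subgroup.ext fun g => (hψ g).trans (eq_stabilizer_of_conj hσ x g)⟩
    · right
      obtain ⟨σ, hσ⟩ := aut_perm_conj (by omega) (ψ * τ⁻¹) fun d hd => by
        have h3 : IsConj (ψ (ψ⁻¹ d)) (ψ (τ⁻¹ d)) :=
          ψ.toMonoidHom.map_isConj (isConj_of_cycleType_eq ((h d hd).trans (hτ' d hd).symm))
        rw [MulAut.apply_inv_self, isConj_iff_cycleType_eq] at h3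
        exact h3.symm.trans hd
      refine ⟨σ⁻¹ x, Subgroup.ext fun g => (hψ g).trans ?_⟩
      have := eq_stabilizer_of_conj hσ x (τ g)
      rw [MulAut.mul_apply, MulAut.inv_apply_self] at this
      exact this

/-- The stabiliser of the partition of `α` into the fibres of `f`. -/
def wr {α β : Type*} (f : α → β) : Subgroup (Perm α) where
  carrier := {g | ∀ x y, f x = f y ↔ f (g x) = f (g y)}
  one_mem' := fun _ _ => Iff.rfl
  mul_mem' := fun {g h} hg hh x y => (hh x y).trans (hg (h x) (h y))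
  inv_mem' := fun {g} hg x y => by rw [hg (g⁻¹ x) (g⁻¹ y), perm_apply_inv, perm_apply_inv]

theorem closure_eq_wr {α β : Type*} (f : α → β) :
    Subgroup.closure {g : Perm α | ∀ x y, f x = f y ↔ f (g x) = f (g y)} = wr f :=
  Subgroup.closure_eq (wr f)

theorem mem_wr {α β : Type*} {f : α → β} {g : Perm α} : g ∈ wr f ↔ ∀ x y, f x = f y ↔ f (g x) = f (g y) := Iff.rfl

omit [Fintype α] in
theorem swap_mem_wr {β : Type*} {f : α → β} {u v : α} (h : f u = f v) : swap u v ∈ wr f := by
  have : ∀ x, f (swap u v x) = f x := by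
    intro x
    rw [swap_apply_def]
    split_ifs with h1 h2
    · rw [h1, h]
    · rw [h2, h]
    · rfl
  intro x y
  rw [this, this]

omit [DecidableEq α] in
theorem exists_equiv_prod {a b : ℕ} (f : α → Fin b) (hf : ∀ i : Fin b, Nat.card {x : α // f x = i} = a) :
    ∃ e : α ≃ Fin b × Fin a, ∀ x, (e x).1 = f x := by
  have : ∀ i : Fin b, Nonempty ({x : α // f x = i} ≃ Fin a) := fun i => Finite.card_eq.1 (by rw [hf]; simp)
  refine ⟨(Equiv.sigmaFiberEquiv f).symm.trans ((Equiv.sigmaCongrRight fun i => (this i).some).trans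
    (Equiv.sigmaEquivProd _ _)), fun x => rfl⟩

theorem shear_mem_wr {α β γ : Type*} {f : α → β} (e : α ≃ β × γ) (he : ∀ x, (e x).1 = f x) (σ : Perm β) (τ : β → Perm γ) :
    (e.trans (prodShear σ τ)).trans e.symm ∈ wr f := by
  intro x y
  simp only [← he, Equiv.trans_apply, Equiv.apply_symm_apply, prodShear_apply, EmbeddingLike.apply_eq_iff_eq]

theorem exists_perm_two_apply {β : Type*} {i j i' j' : β} (h : i ≠ j) (h' : i' ≠ j') : ∃ σ : Perm β, σ i = i' ∧ σ j = j' := by
  classical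
  refine ⟨swap (swap i i' j) j' * swap i i', ?_, by simp⟩
  rw [Perm.mul_apply, swap_apply_left]
  refine swap_apply_of_ne_of_ne (fun he => h ?_) h'
  exact (swap i i').injective (by rw [← he, swap_apply_left])

theorem wr_trans_ne {α β γ : Type*} {f : α → β} (e : α ≃ β × γ) (he : ∀ x, (e x).1 = f x) {u v u' v' : α}
    (h : f u ≠ f v) (h' : f u' ≠ f v') : ∃ w ∈ wr f, w u = u' ∧ w v = v' := by
  classical
  obtain ⟨σ, h1, h2⟩ := exists_perm_two_apply h h'
  refine ⟨_, shear_mem_wr e he σ fun k => if k = f u then swap (e u).2 (e u').2 else swap (e v).2 (e v').2, ?_, ?_⟩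
  · simp [prodShear_apply, he, h1, Equiv.symm_apply_eq, Prod.ext_iff]
  · simp [prodShear_apply, he, h2, Equiv.symm_apply_eq, Prod.ext_iff, h.symm]

theorem wr_trans_eq {α β γ : Type*} {f : α → β} (e : α ≃ β × γ) (he : ∀ x, (e x).1 = f x) {u v u' v' : α}
    (h : f u = f v) (h' : f u' = f v') (huv : u ≠ v) (huv' : u' ≠ v') : ∃ w ∈ wr f, w u = u' ∧ w v = v' := by
  classical
  have h1 : ∀ {u v : α}, f u = f v → u ≠ v → (e u).2 ≠ (e v).2 := fun {u v} h huv h2 =>
    huv (e.injective (Prod.ext (by rw [he, he, h]) h2))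
  obtain ⟨τ, h2, h3⟩ := exists_perm_two_apply (h1 h huv) (h1 h' huv')
  refine ⟨_, shear_mem_wr e he (swap (f u) (f u')) fun _ => τ, ?_, ?_⟩
  · simp [prodShear_apply, he, h2, Equiv.symm_apply_eq, Prod.ext_iff]
  · simp [prodShear_apply, he, h3, Equiv.symm_apply_eq, Prod.ext_iff, ← h, h']

theorem exists_of_not_mem_wr {α β : Type*} {f : α → β} {g : Perm α} (hg : g ∉ wr f) :
    ∃ k, (k = g ∨ k = g⁻¹) ∧ ∃ x y, f x = f y ∧ f (k x) ≠ f (k y) := by
  by_contra hc
  push Not at hc
  refine hg fun x y => ⟨hc g (Or.inl rfl) x y, fun h => ?_⟩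
  simpa using hc g⁻¹ (Or.inr rfl) _ _ h

end H10
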