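import Mathlib
import Cfsg.Agent.H10.SpL

/-!
# Overgroups of subfield subgroups in dimension at least 9
`RatS.dichotomy` : an overgroup of the rational Siegel maps contains `E` or is rational up to scalars
-/

namespace H10

open Module

namespace Form
variable {F V : Type*} [Field F] [AddCommGroup V] [Module F V] {φ : Form F V}
  [φ.Nondeg] [FiniteDimensional F V] [Finite F]

theorem RatS.exists_sing {K : Subfield F} {L : Submodule K V} (h : φ.RatS K L) (hs : φ.RSing K L) (l : List V)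
    (hl : ∀ x ∈ l, x ∈ L) {p : V} (hp : p ∈ L) (hn : l.length + 4 ≤ finrank F V) :
    ∃ e ∈ L, φ.Q e = 0 ∧ e ∉ F ∙ p ∧ ∀ x ∈ l, φ.B x e = 0 := by
  have := h.nondeg
  have := RatS.finiteDim (L := L)
  lift l to List L using hl
  obtain ⟨C, -, h2, h3, h4⟩ := exists_le_orth (φ := h.form) ⊤ (K ∙ ⟨p, hp⟩) l
  have h5 := finrank_span_singleton_le (F := K) (⟨p, hp⟩ : L)
  obtain ⟨e, h6, h7, h8⟩ := hs C (by simp [h.rank] at h4 hn; omega)
  refine ⟨e, e.2, h8, fun h0 => ?_, by simpa using fun x hx hx' => congrArg Subtype.val (h3 e h6 ⟨x, hx⟩ hx')⟩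
  obtain ⟨w, h9, h10⟩ := h.form.exists_sep fun h => h7 (Submodule.disjoint_def.1 h2 e h6 h)
  obtain ⟨a, h11⟩ := Submodule.mem_span_singleton.1 h0
  have h12 : φ.B w p = 0 := congrArg Subtype.val (h9 _ (Submodule.mem_span_singleton_self _))
  have h13 : φ.B w e = 1 := congrArg Subtype.val h10
  simp [← h11, h12] at h13

variable (φ) in
/-- the standing hypotheses: a rational structure and an overgroup of the rational Siegel maps -/
structure RatN (K : Subfield F) (L : Submodule K V) (M : Subgroup φ.Isom) : Prop where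
  rat : φ.RatS K L
  sing : φ.RSing K L
  dim : 9 ≤ finrank F V
  mem : ∀ p ∈ L, ∀ w ∈ L, ∀ s ∈ K, φ.Q p = 0 → φ.B p w = 0 → φ.T s = φ.Q w → φ.siegel p w s ∈ M

namespace RatN
variable {K : Subfield F} {L : Submodule K V} {M : Subgroup φ.Isom} (h : φ.RatN K L M)
include h

theorem hyp (l : List V) (hl : ∀ x ∈ l, x ∈ L) (hn : l.length ≤ 3) : ∃ e ∈ L, ∃ f ∈ L,
    φ.IsHyp e f ∧ ∀ x ∈ l, φ.B x e = 0 ∧ φ.B x f = 0 ∧ φ.B e x = 0 ∧ φ.B f x = 0 := by
  obtain ⟨e, h1, f, h2, h3, -, h4⟩ := h.rat.exists_hyp h.sing [] l (by simp) hl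
    (by have := h.dim; simp; omega)
  exact ⟨e, h1, f, h2, h3, fun x hx => ⟨(h4 x hx).1, (h4 x hx).2, φ.B_symm_zero (h4 x hx).1,
    φ.B_symm_zero (h4 x hx).2⟩⟩

omit [φ.Nondeg] [FiniteDimensional F V] [Finite F] in
theorem inA {p u : V} (hp : p ∈ L) (hu : u ∈ L) (hQ : φ.Q p = 0) (h0 : φ.B p u = 0) : InA M p u := by
  obtain ⟨s, h1, h2⟩ := h.rat.half u hu
  exact ⟨h0, s, h2, h.mem p hp u hu s h1 hQ h0 h2⟩

omit [Finite F] in
theorem extract' {p u z w : V} (hp : φ.Q p = 0) (h1 : InA M p u) (hz : z ∈ L) (hw : w ∈ L)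
    (hQ : φ.Q z = 0) (h2 : φ.B z w = 0) (h3 : φ.B z p = 0) (h4 : φ.B w p = 0) (h5 : φ.B z u = 0) :
    φ.siegel p (φ.B w u • z) 0 ∈ M := by
  obtain ⟨-, s, h6, h7⟩ := h.inA hz hw hQ h2
  exact extract hp h1 hQ h2 h6 h7 h3 h4 h5

omit h [φ.Nondeg] [FiniteDimensional F V] [Finite F] in
theorem inA_of {p z : V} {c : F} (hz : φ.Q z = 0) (h0 : φ.B p z = 0)
    (h1 : φ.siegel p (c • z) 0 ∈ M) : InA M p (c • z) :=
  ⟨by simp [h0], 0, by simp [φ.Q_smul_of_sing hz], h1⟩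

omit h in
variable (K L M) in
/-- coefficients of root elements on rational pairs -/
def Coef (c : F) : Prop :=
  ∀ p ∈ L, ∀ z ∈ L, φ.Q p = 0 → φ.Q z = 0 → φ.B p z = 0 → φ.siegel p (c • z) 0 ∈ M

omit [φ.Nondeg] [FiniteDimensional F V] [Finite F] in
theorem coef_of_mem {c : F} (hc : c ∈ K) : Coef K L M c := fun p hp z hz h1 h2 h3 =>
  h.mem p hp _ (RatS.smul_mem hc hz) 0 K.zero_mem h1 (by simp [h3]) (by simp [φ.Q_smul_of_sing h2])

theorem coef_σ_mul {c d : F} (hc : Coef K L M c) (hd : Coef K L M d) : Coef K L M (φ.σ d * c) := by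
  intro p hp z hz h1 h2 h3
  obtain ⟨e, he, f, hf, hyp, h4⟩ := h.hyp [p, z] (by simp [hp, hz]) (by simp)
  simp only [List.mem_cons, List.not_mem_nil, or_false, forall_eq_or_imp, forall_eq] at h4
  simpa [hyp.Bef, mul_comm c] using extract h1 (inA_of hyp.Qf h4.1.2.1 (hc p hp f hf h1 hyp.Qf h4.1.2.1))
    h2 (w := d • e) (by simp [h4]) (by simp [φ.Q_smul_of_sing hyp.Qe])
    (hd z hz e he h2 hyp.Qe h4.2.1) (φ.B_symm_zero h3) (by simp [h4]) (by simp [h4])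

/-- the coefficient algebra -/
def coefAlg : Subalgebra K F where
  carrier := {c | Coef K L M c}
  mul_mem' {c d} hc hd := by
    simpa using h.coef_σ_mul hd (h.coef_σ_mul (h.coef_of_mem K.one_mem) hc)
  add_mem' {c d} hc hd p hp z hz h1 h2 h3 := by
    have := M.mul_mem (hc p hp z hz h1 h2 h3) (hd p hp z hz h1 h2 h3)
    rw [φ.siegel_mul h1 (by simp [h3]) (by simp [φ.Q_smul_of_sing h2]) (by simp [h3])
      (by simp [φ.Q_smul_of_sing h2])] at this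
    simpa [φ.B_self_eq_zero h2, add_smul] using this
  algebraMap_mem' c := h.coef_of_mem c.2

theorem coef_move {c : F} {p u z : V} (hp : p ∈ L) (hu : u ∈ L) (hz : z ∈ L) (h1 : φ.Q p = 0)
    (h2 : φ.Q u = 0) (h3 : φ.Q z = 0) (h4 : φ.B p u = 0) (h5 : φ.B p z = 0) (h6 : u ∉ F ∙ p)
    (h7 : φ.siegel p (c • u) 0 ∈ M) : φ.siegel p (c • z) 0 ∈ M := by
  obtain ⟨e, he, f, hf, hyp, h8⟩ := h.hyp [p, u, z] (by simp [hp, hu, hz]) (by simp)
  simp only [List.mem_cons, List.not_mem_nil, or_false, forall_eq_or_imp, forall_eq] at h8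
  obtain ⟨w, hw, h9, h10⟩ := h.rat.exists_sep hu h6
  replace h9 := h9 p hp (Submodule.mem_span_singleton_self p)
  have h11 := h.extract' h1 (inA_of h2 h4 h7) he (w := w - φ.B e w • f)
    (L.sub_mem hw (RatS.smul_mem (h.rat.B_mem _ he _ hw) hf)) hyp.Qe (by simp [hyp.Bef]) h8.1.2.2.1
    (by simp [h8, h9]) (by simp [h8])
  simp only [map_smul, map_sub, B_smul_left, LinearMap.sub_apply, h8, h10, smul_eq_mul, mul_zero,
    sub_zero, mul_one] at h11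
  simpa [hyp.Bfe] using h.extract' h1 (inA_of hyp.Qe h8.1.1 h11) hz (w := φ.ε • f)
    (RatS.smul_mem h.rat.ε_mem hf) h3 (by simp [h8]) (φ.B_symm_zero h5) (by simp [h8]) (by simp [h8])

theorem coef_of_pair {c : F} {p u : V} (hp : p ∈ L) (hu : u ∈ L) (h1 : φ.Q p = 0) (hp0 : p ≠ 0)
    (h2 : φ.Q u = 0) (h4 : φ.B p u = 0) (h6 : u ∉ F ∙ p) (h7 : φ.siegel p (c • u) 0 ∈ M) :
    Coef K L M c := by
  intro y hy z hz h8 h9 h10
  obtain ⟨e, he, f, hf, hyp, h11⟩ := h.hyp [p, y] (by simp [hp, hy]) (by simp)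
  simp only [List.mem_cons, List.not_mem_nil, or_false, forall_eq_or_imp, forall_eq] at h11
  have h12 : ∀ x, φ.B f x = 0 → e ∉ F ∙ x := fun x hx h0 => by
    obtain ⟨a, rfl⟩ := Submodule.mem_span_singleton.1 h0
    simpa [hx, φ.ε_ne_zero.symm] using hyp.Bfe
  have h13 := h.coef_move hp hu he h1 h2 hyp.Qe h4 h11.1.1 h6 h7
  rw [siegel_swap h1 hyp.Qe h11.1.1] at h13
  have h14 := h.coef_move he hp hy hyp.Qe h1 h8 h11.1.2.2.1 h11.2.2.2.1
    (not_mem_span_singleton_symm hp0 (h12 p h11.1.2.2.2)) h13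
  rw [siegel_swap hyp.Qe h8 h11.2.2.2.1] at h14
  simpa using h.coef_move hy he hz h8 hyp.Qe h9 h11.2.1 h10 (h12 y h11.2.2.2.2) h14

theorem E_le_of_coef (hc : ∀ c, Coef K L M c) (hT : ∀ t, φ.T t = 0 →
    (∃ b, t = b - φ.ε * φ.σ b) ∨ ∃ a, ∃ d ∈ K, φ.T d = 0 ∧ t = φ.σ a * a * d) : φ.E ≤ M := by
  have key : ∀ p ∈ L, ∀ f ∈ L, φ.IsHyp p f → φ.Full M p := fun p hp f hf hyp => by
    obtain ⟨e, he, e', he', hyp', h1⟩ := h.hyp [p, f] (by simp [hp, hf]) (by simp)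
    simp only [List.mem_cons, List.not_mem_nil, or_false, forall_eq_or_imp, forall_eq] at h1
    have hX : ∀ t, φ.T t = 0 → φ.siegel p 0 t ∈ M := fun t ht => by
      rcases hT t ht with ⟨b, rfl⟩ | ⟨a, d, h2, h3, rfl⟩
      · have := siegel_commutator hyp.Qe (a := (1 : F) • e) (b := b • e') (s := 0) (t := 0)
          (by simp [h1]) (by simp [hyp'.Qe]) (by simp [h1]) (by simp [φ.Q_smul_of_sing hyp'.Qf])
        simp only [one_smul, map_smul, hyp'.Bef, smul_eq_mul, mul_one, B_smul_left, hyp'.Bfe,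
          mul_comm _ φ.ε] at this
        have h2 : φ.siegel p e 0 ∈ M := by simpa using hc 1 p hp e he hyp.Qe hyp'.Qe h1.1.1
        have h3 := hc b p hp e' he' hyp.Qe hyp'.Qf h1.1.2.1
        rw [← this]
        exact M.mul_mem (M.mul_mem (M.mul_mem h2 h3) (M.inv_mem h2)) (M.inv_mem h3)
      by_cases ha : a = 0
      · simp [ha, φ.siegel_zero hyp.Qe, M.one_mem]
      have h4 := siegel_conj_mem (M.mul_mem (hc (-(φ.σ a)⁻¹ * φ.ε) e' he' f hf hyp'.Qf hyp.Qf h1.2.2.2.2)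
        (hc (φ.σ a) p hp e he hyp.Qe hyp'.Qe h1.1.1)) hyp'.Qf (w := 0) (s := d) (by simp)
        (by simpa using h3) (h.mem e' he' 0 L.zero_mem d h2 hyp'.Qf (by simp) (by simpa using h3))
      rw [map_zero, Isom.mul_apply, φ.siegel_apply hyp.Qe (by simp [h1]) (by simp [φ.Q_smul_of_sing hyp'.Qe]),
        φ.siegel_apply hyp'.Qf (by simp [h1]) (by simp [φ.Q_smul_of_sing hyp.Qf])] at h4
      have h5 := siegel_smul hyp.Qe (w := 0) (s := d) (by simp) (by simpa using h3) a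
      rw [smul_zero] at h5
      convert h4 using 1
      rw [← h5]
      have h6 : a⁻¹ * φ.ε * (a * φ.ε) = 1 := by
        rw [mul_mul_mul_comm, inv_mul_cancel₀ ha, ε_mul_ε, one_mul]
      simp [h1, hyp'.Bef, hyp'.Bff, hyp.Bfe, h6]
    refine full_of_le_sgSub (hp := hyp.Qe) (hX := hX) fun y hy => ?_
    have := h.rat.mem_of_le (A := (sgSub M hyp.Qe hX).comap (LinearMap.id - (φ.B p).smulRight f))
      (fun x hx => h.rat.sing_induction h.sing (by have := h.dim; omega) hp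
        (P := (· ∈ sgSub M hyp.Qe hX)) (fun z hz h2 h3 => ⟨h3, fun c => ⟨0,
          by simp [φ.Q_smul_of_sing h2], hc c p hp z hz hyp.Qe h2 h3⟩⟩) (fun _ _ => sub_mem)
        (L.sub_mem hx (RatS.smul_mem (h.rat.B_mem _ hp _ hx) hf)) (by simp [hyp.Bef])) y
    simpa [φ.mem_perp_singleton.1 hy] using this
  obtain ⟨e, he, f, hf, hyp, -⟩ := h.hyp [] (by simp) (by simp)
  exact E_le_of_full (key e he f hf hyp) hyp.Qe (key f hf _ (RatS.smul_mem h.rat.ε_mem he) hyp.symm)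
    hyp.Qf (by simp [hyp.Bef])

section rat
variable (hc : ∀ c, Coef K L M c → c ∈ K)
include hc

theorem exists_add_mem {p u : V} (hp : p ∈ L) (hQ : φ.Q p = 0) (hp0 : p ≠ 0) (hu : InA M p u) :
    ∃ d : F, u + d • p ∈ L := by
  refine h.rat.exists_add_mem hp hQ fun x hx hx' => ?_
  rw [φ.symm]
  refine K.mul_mem h.rat.ε_mem (h.rat.σ_mem _ (h.rat.sing_induction h.sing (by have := h.dim; omega) hp
    (P := fun x => φ.B x u ∈ K) (fun z hz h1 h2 => ?_) (fun x y h1 h2 => by simpa using K.sub_mem h1 h2)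
    hx hx'))
  obtain ⟨w, hw, f, hf, hyp, h3⟩ := h.hyp [p, z] (by simp [hp, hz]) (by simp)
  obtain ⟨e, he, e', he', hyp', h9, h4⟩ := h.rat.exists_hyp h.sing [z, w, f] [p] (by simp [hz, hw, hf]) (by simp [hp])
    (by have := h.dim; simp; omega)
  simp only [List.mem_cons, List.not_mem_nil, or_false, forall_eq_or_imp, forall_eq] at h3 h4 h9
  have h5 := h.mem z hz w hw 0 K.zero_mem h1 h3.2.1 (by simp [hyp.Qe])
  have h6 := hu.map hQ h5
  rw [siegel_apply_of_orth h1 h3.2.1 (by simp [hyp.Qe]) (φ.B_symm_zero h2) h3.1.2.2.1] at h6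
  have h7 := h.extract' hQ (h6.sub hQ hu) he hf hyp'.Qe (φ.B_symm_zero h9.2.2) (φ.B_symm_zero h4.1) h3.1.2.2.2
  rw [φ.siegel_apply h1 h3.2.1 (by simp [hyp.Qe])] at h7
  have h8 := hc _ (h.coef_of_pair hp he hQ hp0 hyp'.Qe h4.1 (fun h0 => by
    obtain ⟨a, rfl⟩ := Submodule.mem_span_singleton.1 h0
    simpa [φ.B_symm_zero h4.2, φ.ε_ne_zero.symm] using hyp'.Bfe) (h7 (by simp [φ.B_symm_zero h9.1, φ.B_symm_zero h9.2.1])))
  simpa [h3, hyp.Bfe, mul_comm φ.ε, mul_assoc] using h8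

/-- an element of `M` with small rational support is rational -/
theorem map_mem_of_small {k : φ.Isom} (hk : k ∈ M) (l : List V) (hl : ∀ x ∈ l, x ∈ L)
    (hn : l.length ≤ 4) (hk' : ∀ x, k.1 x - x ∈ Submodule.span F {x | x ∈ l}) {u : V} (hu : u ∈ L) :
    k.1 u ∈ L := by
  have H : ∀ p ∈ L, φ.Q p = 0 → p ≠ 0 → (∀ x ∈ u :: l, φ.B x p = 0) → ∃ d : F, k.1 u + d • p ∈ L := fun p hp h0 p0 h1 => by
    have h3 : k.1 p = p := Isom.apply_eq_of_orth k fun x =>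
      φ.mem_perp'.1 (φ.mem_perp_span.2 fun x hx => h1 x (List.mem_cons_of_mem _ hx)) _ (hk' x)
    exact h.exists_add_mem hc hp h0 p0 (h3 ▸ (h.inA hp hu h0 (φ.B_symm_zero (h1 u (by simp)))).map h0 hk)
  have := h.dim
  obtain ⟨p, hp, f, -, hyp, h1, -⟩ := h.rat.exists_hyp h.sing (u :: l) [] (by simpa [hu]) (by simp) (by simp; omega)
  obtain ⟨p', hp', h2, h3, h4⟩ := h.rat.exists_sing h.sing (u :: l) (by simpa [hu]) hp (by simp; omega)
  obtain ⟨d, hd⟩ := H p hp hyp.Qe hyp.e_ne_zero h1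
  obtain ⟨d', hd'⟩ := H p' hp' h2 (by rintro rfl; simp at h3) h4
  obtain ⟨w, hw, h5, h6⟩ := h.rat.exists_sep hp' h3
  have h7 := h.rat.B_mem _ hw _ (L.sub_mem hd' hd)
  simp only [add_sub_add_left_eq_sub, map_sub, map_smul, h6, h5 p hp (Submodule.mem_span_singleton_self p), smul_eq_mul,
    mul_one, mul_zero, sub_zero] at h7
  simpa using L.sub_mem hd' (RatS.smul_mem h7 hp')

omit hc in
theorem coef_mem {z u y y' e : V} (hz : z ∈ L) (hu : u ∈ L) (hy : y ∈ L) (hy' : y' ∈ L)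
    (he : e ∈ L) (h1 : φ.B e z = 0) (h2 : φ.B e u = 0) (h3 : φ.B e y = 0) (h4 : φ.B e y' = 1)
    (h5 : u ∉ Submodule.span F {y, z}) {a b c d : F} (h6 : a • u + b • y + c • y' + d • z ∈ L) :
    a ∈ K := by
  obtain ⟨w, hw, h7, h8⟩ := h.rat.exists_sep hu h5
  simpa [h1, h2, h3, h4, h8, mul_comm c, h7 y hy (Submodule.subset_span (by simp)),
    h7 z hz (Submodule.subset_span (by simp))] using h.rat.B_mem (w - φ.σ (φ.B w y') • e)
    (L.sub_mem hw (RatS.smul_mem (h.rat.σ_mem _ (h.rat.B_mem _ hw _ hy')) he)) _ h6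

omit hc in
/-- recognising a vector that is rational modulo `z` up to a scalar -/
theorem exists_smul_add_mem {v z : V} (hz : z ∈ L) (hQ : φ.Q z = 0) (hv : φ.B v z = 0)
    (H : ∀ y ∈ L, ∀ y' ∈ L, ∀ u ∈ L, φ.Q y = 0 → φ.Q y' = 0 → φ.B z y = 0 → φ.B z y' = 0 →
      φ.B z u = 0 → φ.B y y' = 0 → φ.B y u = 0 → φ.B y' u = 0 → φ.B v y ≠ 0 → φ.B v y' ≠ 0 →
      ∃ ν c d : F, ν ≠ 0 ∧ ν • u + (-(ν * (φ.B v u / φ.B v y))) • y + c • y' + d • z ∈ L) :
    ∃ c d : F, c ≠ 0 ∧ c • v + d • z ∈ L := by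
  by_cases h0 : ∀ y ∈ L, φ.Q y = 0 → φ.B z y = 0 → φ.B v y = 0
  · obtain ⟨d, hd⟩ := h.rat.exists_add_mem (v := v) hz hQ fun x hx hx' => by
      rw [h.rat.sing_induction h.sing (by have := h.dim; omega) hz (P := fun x => φ.B v x = 0) h0
        (fun x y h1 h2 => by simp [h1, h2]) hx hx']
      exact K.zero_mem
    exact ⟨1, d, one_ne_zero, by simpa using hd⟩
  have h1 : ∀ y ∈ L, φ.Q y = 0 → φ.B z y = 0 → φ.B v y ≠ 0 → ∀ u ∈ L, φ.B z u = 0 → φ.B y u = 0 →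
      φ.B v u / φ.B v y ∈ K := fun y hy h2 h3 h4 u hu h5 h6 => by
    have h7 : y ∉ F ∙ z := fun h0 => by
      obtain ⟨a, rfl⟩ := Submodule.mem_span_singleton.1 h0
      simp [hv] at h4
    by_cases h8 : u ∈ Submodule.span F {y, z}
    · obtain ⟨a, b, rfl⟩ := Submodule.mem_span_pair.1 h8
      obtain ⟨w, hw, h9, h10⟩ := h.rat.exists_sep hy h7
      simpa [hv, h4, h10, h9 z hz (Submodule.mem_span_singleton_self z)] using h.rat.B_mem _ hw _ hu
    obtain ⟨e, he, f, hf, hyp, h9⟩ := h.hyp [z, y, u] (by simp [hz, hy, hu]) (by simp)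
    simp only [List.mem_cons, List.not_mem_nil, or_false, forall_eq_or_imp, forall_eq] at h9
    obtain ⟨y', h10, h11, h12, h13, h14, h15, h16⟩ : ∃ y' ∈ L, φ.Q y' = 0 ∧ φ.B z y' = 0 ∧
        φ.B y y' = 0 ∧ φ.B y' u = 0 ∧ φ.B v y' ≠ 0 ∧ φ.B e y' = 1 := by
      by_cases h10 : φ.B v f = 0
      · exact ⟨y + f, L.add_mem hy hf, by rw [φ.Q_add_of_orth h9.2.1.2.1, h2, hyp.Qf, add_zero],
          by simp [h3, h9], by simp [h9, φ.B_self_eq_zero h2], by simp [h9, h6], by simp [h10, h4],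
          by simp [h9, hyp.Bef]⟩
      · exact ⟨f, hf, hyp.Qf, h9.1.2.1, h9.2.1.2.1, h9.2.2.2.2.2, h10, hyp.Bef⟩
    obtain ⟨ν, c, d, h17, h18⟩ := H y hy y' h10 u hu h2 h11 h3 h12 h5 h13 h6 h14 h4 h15
    have h19 := h.coef_mem hz hu hy h10 he h9.1.2.2.1 h9.2.2.2.2.1 h9.2.1.2.2.1 h16 h8 h18
    rw [add_comm (ν • u)] at h18
    refine mem_of_mul_mem (K.neg_mem_iff.1 (h.coef_mem hz hy hu h10 he h9.1.2.2.1 h9.2.1.2.2.1
      h9.2.2.2.2.1 h16 (fun h0 => ?_) h18)) h19 h17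
    obtain ⟨a, b, rfl⟩ := Submodule.mem_span_pair.1 h0
    have ha : a ≠ 0 := by rintro rfl; simp [hv] at h4
    exact h8 (Submodule.mem_span_pair.2 ⟨a⁻¹, -(a⁻¹ * b), by
      rw [smul_add, smul_smul, inv_mul_cancel₀ ha]; module⟩)
  push Not at h0
  obtain ⟨y, hy, h2, h3, h4⟩ := h0
  obtain ⟨d, hd⟩ := h.rat.exists_add_mem (v := φ.σ (φ.B v y)⁻¹ • v) hz hQ fun u hu h5 => by
    rw [B_smul_left, σ_σ, ← div_eq_inv_mul]
    obtain ⟨e, he, f, hf, hyp, h9⟩ := h.hyp [z, y, u] (by simp [hz, hy, hu]) (by simp)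
    simp only [List.mem_cons, List.not_mem_nil, or_false, forall_eq_or_imp, forall_eq] at h9
    by_cases h6 : φ.B v (y + e) = 0
    · have h7 : φ.B v e = -φ.B v y := by rw [map_add] at h6; linear_combination h6
      simpa [h7, div_neg] using h1 e he hyp.Qe h9.1.1 (by simpa [h7] using h4) u hu h5 h9.2.2.2.2.1
    have h7 := h.rat.B_mem _ hy _ hu
    have h8 := h1 _ (L.add_mem hy he) (by rw [φ.Q_add_of_orth h9.2.1.1, h2, hyp.Qe, add_zero])
      (by simp [h3, h9]) h6 _ (L.sub_mem hu (RatS.smul_mem h7 hf)) (by simp [h5, h9])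
      (by simp [h9, hyp.Bef])
    convert K.add_mem (K.mul_mem h8 (K.add_mem K.one_mem (h1 y hy h2 h3 h4 e he h9.1.1 h9.2.1.1)))
      (K.mul_mem h7 (h1 y hy h2 h3 h4 f hf h9.1.2.1 h9.2.1.2.1)) using 1
    simp only [map_add, map_sub, map_smul, smul_eq_mul] at h6 ⊢
    field_simp
    ring
  exact ⟨_, d, by simpa using h4, hd⟩

theorem exists_smul_mem_of_tv {d : F} (hd : d ∈ K) (hd0 : d ≠ 0) (hT : φ.T d = 0) {g : φ.Isom}
    (hg : g ∈ M) {x : V} (hx : x ∈ L) (hQ : φ.Q x = 0) : ∃ c : F, c ≠ 0 ∧ c • g.1 x ∈ L := by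
  have hT' : φ.T d = φ.Q 0 := by simpa using hT
  have ha := siegel_conj_mem hg hQ (by simp) hT' (h.mem x hx 0 L.zero_mem d hd hQ (by simp) hT')
  have hv : φ.Q (g.1 x) = 0 := by simpa using hQ
  generalize g.1 x = v at ha hv
  rw [map_zero] at ha
  have key : ∀ y ∈ L, φ.Q y = 0 → φ.B v y ≠ 0 → ∃ γ ∈ M, ∃ μ : F, μ ≠ 0 ∧
      (∀ u, φ.B v u = 0 → φ.B y u = 0 → γ.1 u = u) ∧ γ.1 y = μ • v := fun y hy h1 h2 => by
    obtain ⟨γ, h3, μ, h4, h5, h6⟩ := exists_weyl φ.Isom.subtype ha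
      (h.mem y hy 0 L.zero_mem d hd h1 (by simp) hT') (α := -(φ.ε * d * φ.B v y))
      (β := -(φ.ε * d * φ.B y v)) (by simp [hd0, h2, φ.ε_ne_zero])
      (by simp [hd0, φ.B_eq_zero_comm.not.1 h2, φ.ε_ne_zero])
    refine ⟨γ, h3, μ, h4, fun u h7 h8 => h5 u (siegel_apply_of_orth hv (by simp) hT' h7 (by simp))
      (siegel_apply_of_orth h1 (by simp) hT' h8 (by simp)), h6 v y (siegel_apply_self hv (by simp) hT') ?_
      (siegel_apply_self h1 (by simp) hT') ?_⟩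
    · exact (φ.siegel_apply hv (by simp) hT' y).trans (by simp [sub_eq_add_neg])
    · exact (φ.siegel_apply h1 (by simp) hT' v).trans (by simp [sub_eq_add_neg])
  obtain ⟨c, e, h1, h2⟩ := h.exists_smul_add_mem (v := v) L.zero_mem (by simp) (by simp)
    fun y hy y' hy' u hu h1 h2 _ _ _ h3 h4 h5 h6 h7 => by
      obtain ⟨γ, h8, μ, h9, h10, h11⟩ := key y hy h1 h6
      obtain ⟨γ', h12, μ', h13, h14, h15⟩ := key y' hy' h2 h7
      have h16 : (γ'⁻¹ * γ).1 y = (μ * μ'⁻¹) • y' := by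
        rw [Isom.mul_apply, Isom.inv_apply_eq, h11, map_smul, h15, smul_smul, inv_mul_cancel_right₀ h13]
      have h17 : (γ'⁻¹ * γ).1 (u - (φ.B v u / φ.B v y) • y) = u - (φ.B v u / φ.B v y) • y := by
        rw [Isom.mul_apply, Isom.inv_apply_eq, h10 _ (by simp [h6]) (by simp [h4, φ.B_self_eq_zero h1]),
          h14 _ (by simp [h6]) (by simp [h5, φ.B_symm_zero h3])]
      have h18 := (h.inA hy hu h1 h4).map h1 (M.mul_mem (M.inv_mem h12) h8)
      rw [map_sub, map_smul, h16, sub_eq_iff_eq_add] at h17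
      rw [h16, h17] at h18
      obtain ⟨e, he⟩ := h.exists_add_mem hc hy' h2 (by rintro rfl; simp at h7)
        (h18.of_smul h2 (by simp [h9, h13]))
      refine ⟨φ.σ (μ * μ'⁻¹), φ.σ (μ * μ'⁻¹) * (φ.B v u / φ.B v y) * (μ * μ'⁻¹) + e, 0,
        by simp [h9, h13], ?_⟩
      convert he using 1
      module
  exact ⟨c, h1, by simpa using h2⟩

omit hc in
theorem exists_smul_mem_of_small {g : φ.Isom} (H : ∀ y ∈ L, ∀ w ∈ L, φ.Q y = 0 → φ.Q w = 0 →
    φ.B y w = 0 → ∀ u ∈ L, (φ.siegel (g.1 y) (g.1 w) 0).1 u ∈ L) {y : V} (hy : y ∈ L)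
    (hQ : φ.Q y = 0) : ∃ c : F, c ≠ 0 ∧ c • g.1 y ∈ L := by
  by_cases hy0 : y = 0
  · exact ⟨1, one_ne_zero, by simp [hy0]⟩
  obtain ⟨w, hw, f, hf, hyp, h1⟩ := h.hyp [y] (by simp [hy]) (by simp)
  obtain ⟨w', hw', f', hf', hyp', h2⟩ := h.hyp [y, w, f] (by simp [hy, hw, hf]) (by simp)
  simp only [List.mem_cons, List.not_mem_nil, or_false, forall_eq_or_imp, forall_eq] at h1 h2
  have hN : ∀ w ∈ L, φ.Q w = 0 → φ.B y w = 0 → ∀ u ∈ L,
      φ.B (g.1 w) u • g.1 y - (φ.ε * φ.B (g.1 y) u) • g.1 w ∈ L := fun w hw h3 h4 u hu => by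
    have := L.sub_mem (H y hy w hw hQ h3 h4 u hu) hu
    rw [φ.siegel_apply (by simpa using hQ) (by simpa using h4) (by simpa using h3.symm)] at this
    convert this using 1
    module
  obtain ⟨x, hx, hx'⟩ : ∃ x ∈ L, φ.B (g.1 w) x • g.1 y - (φ.ε * φ.B (g.1 y) x) • g.1 w ∉
      Submodule.span F {g.1 y, g.1 w'} := by
    by_contra h0
    push Not at h0
    obtain ⟨z, hz⟩ := φ.exists_B_eq_one hy0
    obtain ⟨a, b, h3⟩ := Submodule.mem_span_pair.1 (h.rat.mem_of_le (A := (Submodule.span F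
      {g.1 y, g.1 w'}).comap ((φ.B (g.1 w)).smulRight (g.1 y) - (φ.ε • φ.B (g.1 y)).smulRight (g.1 w)))
      h0 (g.1 z))
    simpa [h1, h2, hz, hyp.Bfe, φ.ε_ne_zero] using congrArg (φ.B (g.1 f)) h3
  obtain ⟨u, hu, h3, h4⟩ := h.rat.exists_sep (hN w hw hyp.Qe h1.1 x hx) hx'
  have h5 : φ.B u (g.1 y) = 0 := by
    simpa [hyp'.Bef, h2] using h.rat.mem_of_le (A := LinearMap.ker (φ.B u ∘ₗ
      ((φ.B (g.1 w')).smulRight (g.1 y) - (φ.ε • φ.B (g.1 y)).smulRight (g.1 w'))))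
      (fun x hx => h3 _ (hN w' hw' hyp'.Qe h2.1.1 x hx) (Submodule.mem_span_pair.2
        ⟨φ.B (g.1 w') x, -(φ.ε * φ.B (g.1 y) x), by simp [sub_eq_add_neg]⟩)) (g.1 f')
  refine ⟨φ.B (g.1 w) u, fun h0 => ?_, by simpa [φ.B_symm_zero h5] using hN w hw hyp.Qe h1.1 u hu⟩
  simp [h5, φ.B_symm_zero h0] at h4

theorem siegel_map_mem_quad (hφ : φ.IsQuad) {x w : V} (hx : φ.Q x = 0) (hw : φ.Q w = 0)
    (hxw : φ.B x w = 0) (ha : φ.siegel x w 0 ∈ M) {u : V} (hu : u ∈ L) :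
    (φ.siegel x w 0).1 u ∈ L := by
  let N : V →ₗ[F] V := (φ.B w).smulRight x - (φ.B x).smulRight w
  have hN : ∀ z, N z = φ.B w z • x - φ.B x z • w := fun _ => rfl
  have h1 : ∀ z, (φ.siegel x w 0).1 z = z + N z := fun z => by
    rw [φ.siegel_apply hx hxw (by simp [hw]), hN, hφ.ε_eq]; module
  have h2 : ∀ z, N (N z) = 0 := fun z => by
    simp [hN, hxw, φ.B_symm_zero hxw, φ.B_self_eq_zero hx, φ.B_self_eq_zero hw]
  have h3 : ∀ z y, φ.B (N z) y = -φ.B (N y) z := fun z y => by simp [hN, hφ.σ_eq]; ring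
  have h3' : ∀ z, φ.B (N z) z = 0 := fun z => by simp [hN, hφ.σ_eq]; ring
  have h4 : ∀ z y, φ.B (N z) y ≠ 0 → ∀ u, ∃ κ : F, N u = (φ.B (N z) u / φ.B (N z) y) • N y + κ • N z :=
    fun z y h0 u => ⟨-(φ.B (N y) u / φ.B (N z) y), by
      simp only [hN, map_sub, hφ.B_smul_left, LinearMap.sub_apply] at h0 ⊢
      match_scalars <;> field_simp <;> ring⟩
  have key : ∀ z ∈ L, ∀ y ∈ L, φ.Q z = 0 → φ.Q y = 0 → φ.B z y = 0 → φ.B (N z) y ≠ 0 →
      ∃ γ ∈ M, ∃ μ : F, μ ≠ 0 ∧ (∀ u, N u = 0 → φ.B z u = 0 → φ.B y u = 0 → γ.1 u = u) ∧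
      γ.1 z = μ • N z ∧ γ.1 y = μ • N y := fun z hz y hy h5 h6 h7 h8 => by
    have hs : φ.T 0 = φ.Q y := by simp [h6]
    obtain ⟨γ, h9, μ, h10, h11, h12⟩ := exists_weyl φ.Isom.subtype ha
      (h.mem z hz y hy 0 K.zero_mem h5 h7 hs) one_ne_zero h8
    refine ⟨γ, h9, μ, h10, fun u h13 h14 h15 => h11 u (by simp [h1, h13])
      (siegel_apply_of_orth h5 h7 hs h14 h15), h12 _ z (by simp [h1, h2]) (by simp [h1])
      (siegel_apply_self h5 h7 hs) ?_, h12 _ y (by simp [h1, h2]) (by simp [h1])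
      (siegel_apply_of_orth h5 h7 hs h7 (φ.B_self_eq_zero h6)) ?_⟩
    · exact (φ.siegel_apply h5 h7 hs _).trans (by
        simp [hφ.B_comm y, hφ.B_comm z, h3'])
    · exact (φ.siegel_apply h5 h7 hs _).trans (by
        simp [hφ.B_comm y, hφ.B_comm z, h3', h3 y z, hφ.ε_eq])
  have h5 : ∀ z ∈ L, φ.Q z = 0 → ∃ c d : F, c ≠ 0 ∧ c • N z + d • z ∈ L := fun z hz hQ =>
    h.exists_smul_add_mem hz hQ (h3' z) fun y hy y' hy' u hu h6 h7 h8 h9 h10 h11 h12 h13 h14 h15 => by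
      obtain ⟨γ, h16, μ, h17, h18, h19, h20⟩ := key z hz y hy hQ h6 h8 h14
      obtain ⟨γ', h21, μ', h22, h23, h24, h25⟩ := key z hz y' hy' hQ h7 h9 h15
      obtain ⟨κ, h26⟩ := h4 z y h14 u
      obtain ⟨κ', h27⟩ := h4 z y' h15 y
      set a := φ.B (N z) u / φ.B (N z) y
      set b := φ.B (N z) y / φ.B (N z) y'
      have h28 : (γ'⁻¹ * γ).1 z = (μ * μ'⁻¹) • z := by
        rw [Isom.mul_apply, Isom.inv_apply_eq, h19, map_smul, h24, smul_smul, inv_mul_cancel_right₀ h22]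
      have h29 : (γ'⁻¹ * γ).1 y = (μ * μ'⁻¹) • (b • y' + κ' • z) := by
        rw [Isom.mul_apply, Isom.inv_apply_eq, h20, map_smul, map_add, map_smul, map_smul, h24, h25, h27]
        match_scalars <;> field_simp
      have h30 : (γ'⁻¹ * γ).1 (u - a • y - κ • z) = u - a • y - κ • z := by
        have h30 : N (u - a • y - κ • z) = 0 := by simp [h26]
        have h31 : φ.B z (u - a • y - κ • z) = 0 := by simp [h10, h8, φ.B_self_eq_zero hQ]
        rw [Isom.mul_apply, Isom.inv_apply_eq, h18 _ h30 h31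
          (by simp [h12, φ.B_self_eq_zero h6, φ.B_symm_zero h8]),
          h23 _ h30 h31 (by simp [h13, φ.B_symm_zero h11, φ.B_symm_zero h9])]
      have h31 := (h.inA hz hu hQ h10).map hQ (M.mul_mem (M.inv_mem h21) h16)
      rw [map_sub, map_sub, map_smul, map_smul, h28, h29, sub_sub, sub_eq_iff_eq_add] at h30
      rw [h28, h30] at h31
      obtain ⟨e, he⟩ := h.exists_add_mem hc hz hQ (by rintro rfl; simp at h14)
        (h31.of_smul hQ (by simp [h17, h22]))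
      rw [hφ.σ_eq] at he
      refine ⟨μ * μ'⁻¹, μ * μ'⁻¹ * a * (μ * μ'⁻¹) * b, e + μ * μ'⁻¹ * (a * (μ * μ'⁻¹) * κ' +
        κ * (μ * μ'⁻¹) - κ), by simp [h17, h22], ?_⟩
      convert he using 1
      module
  have hd : 7 ≤ finrank F V := by have := h.dim; omega
  by_cases h6 : ∀ z ∈ L, φ.Q z = 0 → N z = 0
  · rwa [h1, h.rat.sing_induction h.sing hd L.zero_mem (P := fun z => N z = 0)
      (fun z hz hQ _ => h6 z hz hQ) (fun x y h1 h2 => by simp [h1, h2]) hu (by simp), add_zero]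
  push Not at h6
  obtain ⟨z, hz, h6, h7⟩ := h6
  obtain ⟨y, hy, h8, h9⟩ : ∃ y ∈ L, φ.Q y = 0 ∧ φ.B (N z) y ≠ 0 := by
    by_contra h0
    push Not at h0
    exact h7 (φ.eq_zero_of_B_left (h.rat.B_eq_zero fun u hu => h.rat.sing_induction h.sing hd
      L.zero_mem (P := fun u => φ.B (N z) u = 0) (fun z hz hQ _ => h0 z hz hQ)
      (fun x y h1 h2 => by simp [h1, h2]) hu (by simp)))
  obtain ⟨c, d, h10, h11⟩ := h5 z hz h6
  obtain ⟨c', d', h12, h13⟩ := h5 y hy h8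
  refine h.map_mem_of_small hc ha [c • N z + d • z, z, c' • N y + d' • y, y]
    (by simp [h11, h13, hz, hy]) le_rfl (fun u => ?_) hu
  obtain ⟨κ, h14⟩ := h4 z y h9 u
  rw [h1, add_sub_cancel_left, h14]
  refine add_mem (Submodule.smul_mem _ _ ?_) (Submodule.smul_mem _ _ ?_)
  · rw [← Submodule.smul_mem_iff _ h12, ← add_sub_cancel_right (c' • N y) (d' • y)]
    exact sub_mem (Submodule.subset_span (by simp)) (Submodule.smul_mem _ _ (Submodule.subset_span (by simp)))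
  · rw [← Submodule.smul_mem_iff _ h10, ← add_sub_cancel_right (c • N z) (d • z)]
    exact sub_mem (Submodule.subset_span (by simp)) (Submodule.smul_mem _ _ (Submodule.subset_span (by simp)))

end rat

theorem exists_smul_of_sing {g : V ≃ₗ[F] V}
    (H : ∀ y ∈ L, φ.Q y = 0 → ∃ c : F, c ≠ 0 ∧ c • g y ∈ L) : ∃ c : F, c ≠ 0 ∧ ∀ x ∈ L, c • g x ∈ L := by
  have h1 : ∀ y ∈ L, ∀ z ∈ L, φ.Q y = 0 → φ.Q z = 0 → φ.B y z = 0 → y ∉ F ∙ z → z ≠ 0 →
      ∀ c : F, c ≠ 0 → c • g y ∈ L → c • g z ∈ L := fun y hy z hz h2 h3 h4 h5 h6 c hc h7 => by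
    obtain ⟨a, ha, h8⟩ := H _ (L.add_mem hy hz) (by rw [φ.Q_add_of_orth h4, h2, h3, add_zero])
    obtain ⟨b, hb, h9⟩ := H z hz h3
    have h10 : ∀ y z : V, y ∉ F ∙ z → ∀ b c : F, b ≠ 0 → c ≠ 0 → c • g y ∈ L → b • g z ∈ L →
        a • g (y + z) ∈ L → a / c ∈ K := fun y z h10 b c hb hc h11 h12 h13 => by
      obtain ⟨w, hw, h14, h15⟩ := h.rat.exists_sep (W := F ∙ g z) h11 fun h0 => by
        obtain ⟨d, hd⟩ := Submodule.mem_span_singleton.1 h0
        exact h10 (Submodule.mem_span_singleton.2 ⟨c⁻¹ * d, g.injective (by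
          rw [map_smul, mul_smul, hd, smul_smul, inv_mul_cancel₀ hc, one_smul])⟩)
      have h16 : φ.B w (g z) = 0 := by
        simpa [hb] using h14 _ h12 (Submodule.smul_mem _ _ (Submodule.mem_span_singleton_self _))
      convert h.rat.B_mem _ hw _ h13 using 1
      simp only [map_smul, map_add, smul_eq_mul, h16, add_zero] at h15 ⊢
      rw [div_eq_iff hc, mul_assoc, mul_comm _ c, h15, mul_one]
    have h11 := h10 y z h5 b c hb hc h7 h9 h8
    have h12 := h10 z y (not_mem_span_singleton_symm h6 h5) c b hc hb h9 h7 (add_comm y z ▸ h8)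
    convert RatS.smul_mem (K.div_mem h12 h11) h9 using 1
    rw [smul_smul]; congr 1; field_simp
  obtain ⟨p, hp, f, hf, hyp, -⟩ := h.hyp [] (by simp) (by simp)
  obtain ⟨c, hc, h2⟩ := H p hp hyp.Qe
  refine ⟨c, hc, fun x hx => h.rat.sing_induction h.sing (by have := h.dim; omega) L.zero_mem
    (P := fun x => c • g x ∈ L) (fun z hz h3 _ => ?_)
    (fun x y h1 h2 => by rw [map_sub, smul_sub]; exact L.sub_mem h1 h2) hx (by simp)⟩
  by_cases hz0 : z = 0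
  · simp [hz0]
  obtain ⟨e, he, e', he', hyp', h4⟩ := h.hyp [p, z] (by simp [hp, hz]) (by simp)
  simp only [List.mem_cons, List.not_mem_nil, or_false, forall_eq_or_imp, forall_eq] at h4
  have h5 : ∀ x, φ.B e' x = 0 → e ∉ F ∙ x := fun x hx h0 => by
    obtain ⟨a, rfl⟩ := Submodule.mem_span_singleton.1 h0
    simpa [hx, φ.ε_ne_zero.symm] using hyp'.Bfe
  exact h1 e he z hz hyp'.Qe h3 h4.2.2.2.1 (h5 z h4.2.2.2.2) hz0 c hc (h1 p hp e he hyp.Qe hyp'.Qe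
    h4.1.1 (not_mem_span_singleton_symm hyp.e_ne_zero (h5 p h4.1.2.2.2)) hyp'.e_ne_zero c hc h2)

theorem dichotomy (hK : (finrank K F).Prime) (hT : ∀ t, φ.T t = 0 →
    (∃ b, t = b - φ.ε * φ.σ b) ∨ ∃ a, ∃ d ∈ K, φ.T d = 0 ∧ t = φ.σ a * a * d)
    (hcase : (∃ d ∈ K, d ≠ 0 ∧ φ.T d = 0) ∨ φ.IsQuad ∨ finrank K F = 2) :
    φ.E ≤ M ∨ ∀ g ∈ M, ∃ c : F, c ≠ 0 ∧ ∀ x ∈ L, c • g.1 x ∈ L := by
  have := Subalgebra.isSimpleOrder_of_finrank_prime K F hK
  rcases eq_bot_or_eq_top h.coefAlg with h0 | h0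
  swap
  · exact Or.inl (h.E_le_of_coef (fun c => (h0.ge Algebra.mem_top : c ∈ h.coefAlg)) hT)
  have hc : ∀ c, Coef K L M c → c ∈ K := fun c hc => by
    obtain ⟨a, rfl⟩ := Algebra.mem_bot.1 (h0.le hc)
    exact a.2
  refine Or.inr fun g hg => h.exists_smul_of_sing fun y hy hQ => ?_
  rcases hcase with ⟨d, h1, h2, h3⟩ | hcase
  · exact h.exists_smul_mem_of_tv hc h1 h2 h3 hg hy hQ
  refine h.exists_smul_mem_of_small (fun y hy w hw h1 h2 h3 u hu => ?_) hy hQ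
  have h4 := siegel_conj_mem hg h1 h3 (by simp [h2]) (h.mem y hy w hw 0 K.zero_mem h1 h3 (by simp [h2]))
  rcases hcase with h5 | h5
  · exact h.siegel_map_mem_quad hc h5 (by simpa using h1) (by simpa using h2) (by simpa using h3) h4 hu
  have h6 : ∀ x, ∃ a ∈ L, ∃ b ∈ L, x ∈ Submodule.span F {a, b} := fun x => by
    let B := Module.finBasisOfFinrankEq K F h5
    let A : Submodule F V :=
      { carrier := {x | ∀ c : F, ∃ a ∈ L, ∃ b ∈ L, c • x = B 0 • a + B 1 • b}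
        zero_mem' := fun c => ⟨0, L.zero_mem, 0, L.zero_mem, by simp⟩
        smul_mem' := fun c x hx d => by simpa [smul_smul] using hx (d * c)
        add_mem' := fun {x y} hx hy c => by
          obtain ⟨a, ha, b, hb, h1⟩ := hx c
          obtain ⟨a', ha', b', hb', h2⟩ := hy c
          exact ⟨_, L.add_mem ha ha', _, L.add_mem hb hb', by rw [smul_add, h1, h2]; module⟩ }
    obtain ⟨a, ha, b, hb, h7⟩ := h.rat.mem_of_le (A := A) (fun x hx c => ⟨_, L.smul_mem (B.repr c 0) hx,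
      _, L.smul_mem (B.repr c 1) hx, by
        conv_lhs => rw [← B.sum_repr c]
        simp only [Fin.sum_univ_two, Subfield.smul_def, smul_eq_mul]; module⟩) x 1
    exact ⟨a, ha, b, hb, Submodule.mem_span_pair.2 ⟨_, _, by rw [← h7, one_smul]⟩⟩
  obtain ⟨a, ha, b, hb, h7⟩ := h6 (g.1 y)
  obtain ⟨a', ha', b', hb', h8⟩ := h6 (g.1 w)
  refine h.map_mem_of_small hc h4 [a, b, a', b'] (by simp [ha, hb, ha', hb']) le_rfl (fun x => ?_) hu
  have h9 := Submodule.span_mono (t := {x | x ∈ [a, b, a', b']}) (by intro; simp; tauto) h7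
  have h10 := Submodule.span_mono (t := {x | x ∈ [a, b, a', b']}) (by intro; simp; tauto) h8
  rw [φ.siegel_apply (by simpa using h1) (by simpa using h3) (by simp [h2])]
  convert sub_mem (Submodule.smul_mem _ (φ.B (g.1 w) x) h9)
    (Submodule.smul_mem _ (φ.ε * φ.B (g.1 y) x) h10) using 1
  module

end RatN
end Form

open Matrix Cfsg Cfsg.Geo
section
variable {ι : Type} [Fintype ι] [DecidableEq ι] {F : Type*} [Field F] {K : Subfield F} {P : GL ι F}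

theorem isMaximalIn_subfield9 [Finite F] {φ : Form F (ι → F)} [φ.Nondeg] (h : φ.RatS K (ratL K P))
    (hs : φ.RSing K (ratL K P)) (hn : 9 ≤ Fintype.card ι) (hK : (finrank K F).Prime)
    (hT : ∀ t, φ.T t = 0 → (∃ b, t = b - φ.ε * φ.σ b) ∨
      ∃ a, ∃ d ∈ K, φ.T d = 0 ∧ t = φ.σ a * a * d)
    (hcase : (∃ d ∈ K, d ≠ 0 ∧ φ.T d = 0) ∨ φ.IsQuad ∨ finrank K F = 2) :
    IsMaximalIn (φ.E.map φ.toGL) (subfieldSubgroup K P ⊓ φ.E.map φ.toGL) := by
  refine isMaximalIn_map _ (fun h0 => ?_) fun M hM g hg _ hg' => ?_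
  · obtain ⟨c, hc⟩ := exists_not_mem_of_prime hK
    obtain ⟨p, hp, f, hf, hyp, -⟩ := h.exists_hyp hs [] [] (by simp) (by simp) (by simp; omega)
    obtain ⟨e, he, e', he', hyp', -, h1⟩ := h.exists_hyp hs [] [p, f] (by simp) (by simp [hp, hf])
      (by simp; omega)
    simp only [List.mem_cons, List.not_mem_nil, or_false, forall_eq_or_imp, forall_eq] at h1
    have h2 : φ.B p (φ.σ c • e) = 0 := by simp [h1]
    have h3 : φ.T 0 = φ.Q (φ.σ c • e) := by simp [φ.Q_smul_of_sing hyp'.Qe]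
    obtain ⟨d, hd, h4⟩ := mem_subfieldSubgroup_iff.1 (h0 (φ.siegel_mem_E hyp.Qe h2 h3))
    simp only [toGL_mulVec] at h4
    have h5 := h.B_mem _ (h4 p hp) f hf
    have h6 := h.B_mem _ (h4 e' he') f hf
    rw [Form.siegel_apply_self hyp.Qe h2 h3] at h5
    rw [φ.siegel_apply hyp.Qe h2 h3] at h6
    simp only [hyp.Bef, h1, hyp'.Bef, φ.B_symm_zero h1.2.2, mul_zero, zero_smul, sub_zero,
      Form.B_smul_left, mul_one, map_add, LinearMap.add_apply, zero_add, Form.σ_σ] at h5 h6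
    exact hc (by simpa using h.σ_mem _ (Form.mem_of_mul_mem h6 h5 (by simpa using hd)))
  · refine (Form.RatN.dichotomy ⟨h, hs, by simpa using hn, fun p hp w hw s hs h1 h2 h3 =>
      hM ⟨φ.siegel_mem_E h1 h2 h3, mem_subfieldSubgroup_iff.2 ⟨1, one_ne_zero, fun x hx => ?_⟩⟩⟩
      hK hT hcase).resolve_right fun h0 => hg' (mem_subfieldSubgroup_iff.2 ?_)
    · rw [toGL_mulVec, one_smul, φ.siegel_apply h1 h2 h3]
      exact sub_mem (sub_mem (add_mem hx (Form.RatS.smul_mem (h.B_mem _ hw _ hx) hp))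
        (Form.RatS.smul_mem (K.mul_mem h.ε_mem (h.B_mem _ hp _ hx)) hw))
        (Form.RatS.smul_mem (K.mul_mem (K.mul_mem h.ε_mem hs) (h.B_mem _ hp _ hx)) hp)
    · simpa only [toGL_mulVec] using h0 g hg

theorem isMaximalIn_subfield_quad9 [Fintype F] (Q : QuadraticForm F (ι → F)) [(Form.ofQuad Q).Nondeg]
    (hn : 9 ≤ Fintype.card ι) {r : ℕ} (hr : r.Prime) (hcard : Fintype.card F = Nat.card K ^ r)
    {ζ : F} (hζ : ζ ≠ 0) (hP : IsQuadFormRationalStructure (fun v => ζ * Q v) K P) :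
    IsMaximalIn (omegaGL Q) (subfieldSubgroup K P ⊓ omegaGL Q) := by
  have hz : (Form.ofQuad Q).σ ζ = 1 * ζ := by simp
  rw [omegaGL_eq_E _ (by omega), scale_E_map_toGL _ hζ (Or.inl rfl) hz]
  have h0 : ((Form.ofQuad Q).scale hζ (Or.inl rfl) hz).IsQuad :=
    ⟨fun _ => rfl, by simp, fun a => by simp [hζ]⟩
  have h1 : ((Form.ofQuad Q).scale hζ (Or.inl rfl) hz).RatS K (ratL K P) :=
    ratS_of (fun _ h => h) (fun u v hu hv => by
      convert K.sub_mem (K.sub_mem (hP _ fun i => K.add_mem (hu i) (hv i)) (hP u hu)) (hP v hv) using 1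
      change _ = ζ * Q (P.1 *ᵥ (u + v)) - _ - _
      simp only [Form.scale_B, Form.ofQuad_B, QuadraticMap.polar, mulVec_add]; ring) hP
      (fun a ha => by rwa [h0.T_eq]) fun x _ hx => ⟨_, hx, h0.T_eq _⟩
  refine isMaximalIn_subfield9 h1 (fun W hW => ?_) hn (finrank_eq_of_card hcard ▸ hr)
    (fun t ht => Or.inl ⟨0, by simpa [h0.T_eq] using ht⟩) (Or.inr (Or.inl h0))
  obtain ⟨v, h2, h3, h4⟩ := Form.IsQuad.exists_singular (φ := h1.form) ⟨fun a => Subtype.ext (h0.σ_eq a),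
    Subtype.ext h0.ε_eq, fun a => Subtype.ext (h0.T_eq a)⟩ hW
  exact ⟨v, h2, h3, congrArg Subtype.val h4⟩

end

theorem SpL.subf5 {F : Type*} [Field F] [Fintype F] {m : ℕ} (hm : 5 ≤ m) (F₀ : Subfield F) (r : ℕ) (hr : r.Prime) (hcard : Fintype.card F = Nat.card F₀ ^ r) (P : Matrix.GeneralLinearGroup (Fin m ⊕ Fin m) F) (ζ : F) (hζ : ζ ≠ 0) (hP : Cfsg.Geo.IsFormRationalStructure (Cfsg.sympForm m F) F₀ ζ P) : Cfsg.Geo.IsMaximalIn (Cfsg.spGL m F) (Cfsg.Geo.subfieldSubgroup F₀ P ⊓ Cfsg.spGL m F) := by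
  have h0 := H09.isAltF_spForm (l := Fin m) (F := F)
  have hz : (H09.spForm (Fin m) F).σ ζ = 1 * ζ := by simp [h0.σ_eq]
  rw [H10.spGL_eq_E, H10.scale_E_map_toGL _ hζ (Or.inl rfl) hz]
  refine H10.isMaximalIn_subfield9 (H10.ratS_of (fun _ h => h) (fun u v hu hv => ?_)
    (fun u _ => by simp) (fun a _ => by simp [h0.T_eq]) fun x _ _ => ⟨0, F₀.zero_mem, by simp⟩)
    (H10.rSing_of_Q fun x _ => by simp) (by simp; omega) (H10.finrank_eq_of_card hcard ▸ hr)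
    (fun t _ => ?_) (Or.inl ⟨1, F₀.one_mem, one_ne_zero, by simp [h0.T_eq]⟩)
  · simpa [H09.sympForm_eq] using hP u v hu hv
  by_cases h2 : (2 : F) = 0
  · obtain ⟨a, rfl⟩ := H10.chi_eq_one_iff.1 (H10.chi_eq_one_of_two_eq_zero h2 t)
    exact Or.inr ⟨a, 1, F₀.one_mem, by simp [h0.T_eq], by simp [h0.σ_eq]⟩
  · refine Or.inl ⟨t / 2, ?_⟩
    simp only [H10.Form.scale_ε, H10.Form.scale_σ, h0.σ_eq, H10.Form.ε_eq_of_isAltF h0]
    field_simp
    ring

end H10
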